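import Groth.Agent.EGA43.BranchCount.Compare
import Groth.Agent.EGA43.ConnFlat.Henselian
import Groth.Agent.DVRDom.Basic
import Groth.Agent.AdicRing.ComplBij
import Groth.Agent.CAlgH.FiniteCompletion
import Groth.Agent.LocCoh.NonVanishing
import Groth.Agent.Et18.EtaleLocalRing

/-!
# Branches of the completion in dimension one (Stacks 0C2D)
-/

set_option autoImplicit false
set_option backward.isDefEq.respectTransparency false
set_option linter.style.haveILetI false

universe u

open IsLocalRing

namespace Groth.Agent.EGA43.BranchCount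

open HenselLib

/-- Local rings of dimension at most one: a prime above an element off a minimal prime is maximal. -/
theorem maximalIdeal_le_radical {C : Type u} [CommRing C] [IsLocalRing C] [Ring.KrullDimLE 1 C] {P : Ideal C}
    [P.IsPrime] {a : C} (ha : a ∉ P) : maximalIdeal C ≤ (P ⊔ Ideal.span {a}).radical := by
  rw [Ideal.radical_eq_sInf]
  refine le_sInf fun J ⟨hle, hJ⟩ => ?_
  rcases Ring.krullDimLE_one_iff.mp inferInstance J hJ with h | h
  · have h1 : J ≤ P := h.2 ⟨inferInstance, bot_le⟩ (le_sup_left.trans hle)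
    exact absurd (h1 (hle (Ideal.mem_sup_right (Ideal.mem_span_singleton_self a)))) ha
  · exact (IsLocalRing.eq_maximalIdeal h).ge

/-- Key step: a henselian one-dimensional ring has only one minimal prime of the completion above each
minimal prime. -/
theorem eq_of_comap_eq {R C : Type u} [CommRing R] [HenselianLocalRing R] [IsNoetherianRing R] [Ring.KrullDimLE 1 R]
    [CommRing C] [IsLocalRing C] [Ring.KrullDimLE 1 C] [Algebra R C] [IsLocalHom (algebraMap R C)]
    (hmap : (maximalIdeal R).map (algebraMap R C) = maximalIdeal C)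
    (hres : ∀ z : C, ∃ r, z - algebraMap R C r ∈ maximalIdeal C)
    {P₁ P₂ : Ideal C} (h₁ : P₁ ∈ minimalPrimes C) (h₂ : P₂ ∈ minimalPrimes C)
    (he : P₁.comap (algebraMap R C) = P₂.comap (algebraMap R C)) : P₁ = P₂ := by
  classical
  haveI := h₁.1.1
  haveI := h₂.1.1
  by_contra hne
  obtain ⟨a, ha₂, ha₁⟩ : ∃ a ∈ P₂, a ∉ P₁ := by
    by_contra! h'
    exact hne (le_antisymm (h₁.2 h₂.1 h') h')
  set q := P₁.comap (algebraMap R C) with hq
  have hqP₂ : q ≤ P₂.comap (algebraMap R C) := he.le
  obtain ⟨x, hxm, hxq⟩ : ∃ x ∈ maximalIdeal R, x ∉ q := by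
    by_contra! h'
    have h : maximalIdeal C ≤ P₁ := hmap ▸ Ideal.map_le_iff_le_comap.2 h'
    exact hne (le_antisymm ((IsLocalRing.le_maximalIdeal h₁.1.1.ne_top).trans (hmap ▸ Ideal.map_le_iff_le_comap.2
      (fun r hr => hqP₂ (h' r hr)))) ((IsLocalRing.le_maximalIdeal h₂.1.1.ne_top).trans h))
  haveI : q.IsPrime := Ideal.IsPrime.comap _
  obtain ⟨k, hk⟩ := maximalIdeal_le_radical (P := P₁) ha₁ (hmap ▸ Ideal.mem_map_of_mem _ hxm)
  obtain ⟨p₁, hp₁, b, hb, hxk⟩ := Submodule.mem_sup.1 hk
  obtain ⟨c, rfl⟩ := Ideal.mem_span_singleton'.1 hb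
  -- an approximation of `a` from `R`
  have hxk1 : x ^ (k + 1) ∉ q := fun h => hxq (Ideal.IsPrime.mem_of_pow_mem ‹_› _ h)
  obtain ⟨N, hN⟩ := Ideal.exists_pow_le_of_le_radical_of_fg (maximalIdeal_le_radical (P := q) hxk1)
    (maximalIdeal R).fg_of_isNoetherianRing
  obtain ⟨a₀, ha₀⟩ := CAlgH.exists_sub_mem_pow (algebraMap R C) hmap hres N a
  have hs : maximalIdeal C ^ N ≤ q.map (algebraMap R C) ⊔ Ideal.span {algebraMap R C x ^ (k + 1)} := by
    rw [← hmap, ← Ideal.map_pow]
    refine (Ideal.map_mono hN).trans ?_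
    rw [Ideal.map_sup, Ideal.map_span, Set.image_singleton, map_pow]
  obtain ⟨e, hed, d', hd', hsum⟩ := Submodule.mem_sup.1 (hs ha₀)
  obtain ⟨d, rfl⟩ := Ideal.mem_span_singleton'.1 hd'
  have he₁ : e ∈ P₁ := Ideal.map_comap_le hed
  have he₂ : e ∈ P₂ := Ideal.map_le_iff_le_comap.2 hqP₂ hed
  -- the normalization of `R/q`
  let D := R ⧸ q
  haveI : IsLocalRing D := IsLocalRing.of_surjective' _ Ideal.Quotient.mk_surjective
  haveI : Ring.KrullDimLE 1 D := Ring.KrullDimLE.mk₁ fun J hJ => by
    rcases Ring.krullDimLE_one_iff.mp inferInstance (J.comap (Ideal.Quotient.mk q)) (Ideal.IsPrime.comap _) with h | h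
    · refine Or.inl ⟨⟨hJ, bot_le⟩, fun J' hJ' hle => ?_⟩
      haveI := hJ'.1
      have h' := h.2 ⟨Ideal.IsPrime.comap (Ideal.Quotient.mk q) (K := J'), bot_le⟩ (Ideal.comap_mono hle)
      intro y hy
      obtain ⟨y, rfl⟩ := Ideal.Quotient.mk_surjective y
      exact h' hy
    · exact Or.inr (by
        haveI := h
        rw [← Ideal.map_comap_of_surjective _ Ideal.Quotient.mk_surjective J]
        exact (Ideal.map_eq_top_or_isMaximal_of_surjective _ Ideal.Quotient.mk_surjective h).resolve_left
          (by rw [Ideal.map_comap_of_surjective _ Ideal.Quotient.mk_surjective]; exact hJ.ne_top))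
  let K := FractionRing D
  let W := integralClosure D K
  haveI := DVRDom.isNoetherianRing_integralClosure D K
  haveI : Algebra.IsIntegral D W := integralClosure.AlgebraIsIntegral
  haveI : IsIntegrallyClosed W := integralClosure.isIntegrallyClosedOfFiniteExtension K
  haveI : Ring.DimensionLEOne W := by
    have : Ring.DimensionLEOne D := ⟨fun {p} hp0 hp => by
      rcases Ring.krullDimLE_one_iff.mp inferInstance p hp with h | h
      · rw [IsDomain.minimalPrimes_eq_singleton_bot, Set.mem_singleton_iff] at h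
        exact absurd h hp0
      · exact h⟩
    infer_instance
  haveI : IsDedekindDomain W := { }
  haveI : Algebra.IsIntegral R W := Algebra.IsIntegral.trans D
  haveI := ConnFlat.isLocalRing_of_integral R W
  -- field points
  have point : ∀ P : Ideal C, P.IsPrime → P.comap (algebraMap R C) = q →
      ∃ (L : Type u) (_ : Field L) (φ : C →+* L) (j : K →+* L) (V : ValuationSubring L),
        (∀ z, φ z = 0 ↔ z ∈ P) ∧ (∀ r, j (algebraMap D K (Ideal.Quotient.mk q r)) = φ (algebraMap R C r)) ∧
        (∀ z, φ z ∈ V) ∧ (∀ z ∈ maximalIdeal C, V.valuation (φ z) < 1) ∧ ∀ w : W, j w.1 ∈ V := by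
    intro P hP hPq
    haveI := hP
    let L := FractionRing (C ⧸ P)
    let φ : C →+* L := (algebraMap (C ⧸ P) L).comp (Ideal.Quotient.mk P)
    have hφ : ∀ z, φ z = 0 ↔ z ∈ P := fun z => by
      rw [RingHom.comp_apply, map_eq_zero_iff _ (IsFractionRing.injective _ _), Ideal.Quotient.eq_zero_iff_mem]
    let j₀ : D →+* L := Ideal.Quotient.lift q (φ.comp (algebraMap R C)) fun r hr => (hφ _).2 (hPq.ge hr)
    have hj₀ : Function.Injective j₀ := (injective_iff_map_eq_zero j₀).2 fun y hy => by
      obtain ⟨r, rfl⟩ := Ideal.Quotient.mk_surjective y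
      exact Ideal.Quotient.eq_zero_iff_mem.2 (hPq.le ((hφ _).1 hy))
    let j : K →+* L := IsFractionRing.lift hj₀
    obtain ⟨V, hV⟩ := (LocalSubring.range φ).exists_le_valuationSubring
    have hVA : ∀ z, φ z ∈ V := fun z => hV.1 ⟨z, rfl⟩
    refine ⟨L, inferInstance, φ, j, V, hφ, fun r => IsFractionRing.lift_algebraMap hj₀ _, hVA, ?_, fun w => ?_⟩
    · intro z hz
      by_contra hc
      have h1 : V.valuation (φ z) = 1 :=
        le_antisymm ((V.valuation_le_one_iff _).mpr (hVA z)) (not_lt.mp hc)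
      have hu : IsUnit (⟨φ z, hVA z⟩ : V) := (V.valuation_eq_one_iff ⟨φ z, hVA z⟩).mpr h1
      have h2 : IsUnit (⟨φ z, ⟨z, rfl⟩⟩ : φ.range) := hV.2.1 _ hu
      obtain ⟨⟨_, y, rfl⟩, hy⟩ := isUnit_iff_exists_inv.mp h2
      have h3 : φ (z * y - 1) = 0 := by
        rw [map_sub, map_mul, map_one, sub_eq_zero]
        exact congrArg Subtype.val hy
      have h4 : z * y - 1 ∈ maximalIdeal C := IsLocalRing.le_maximalIdeal hP.ne_top ((hφ _).1 h3)
      exact (maximalIdeal.isMaximal C).ne_top ((Ideal.eq_top_iff_one _).2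
        (by simpa using sub_mem (Ideal.mul_mem_right y _ hz) h4))
    · let ψ : D →+* V := RingHom.codRestrict (j.comp (algebraMap D K)) V.toSubring fun y => by
        obtain ⟨r, rfl⟩ := Ideal.Quotient.mk_surjective y
        show j (algebraMap D K (Ideal.Quotient.mk q r)) ∈ V
        rw [IsFractionRing.lift_algebraMap hj₀]
        exact hVA _
      obtain ⟨g, hg, hgw⟩ := w.2
      have hint : IsIntegral V (j w.1) := ⟨g.map ψ, hg.map ψ, by
        rw [Polynomial.eval₂_map]
        show Polynomial.eval₂ (j.comp (algebraMap D K)) (j w.1) g = 0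
        rw [← Polynomial.hom_eval₂, hgw, map_zero]⟩
      obtain ⟨y, hy⟩ := IsIntegrallyClosed.algebraMap_eq_of_integral hint
      exact hy ▸ y.2
  obtain ⟨L₁, _, φ₁, j₁, V₁, hφ₁, hj₁, hC₁, hm₁, hW₁⟩ := point P₁ h₁.1.1 rfl
  obtain ⟨L₂, _, φ₂, j₂, V₂, hφ₂, hj₂, hC₂, hm₂, hW₂⟩ := point P₂ h₂.1.1 he.symm
  let ξ : R → K := fun r => algebraMap D K (Ideal.Quotient.mk q r)
  have hx0 : ξ x ≠ 0 := fun h => hxq (Ideal.Quotient.eq_zero_iff_mem.1 (IsFractionRing.injective D K (h.trans (map_zero _).symm)))
  let u := ξ a₀ / ξ x ^ (k + 1)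
  have hu₂ : j₂ u = φ₂ (-d) := by
    have h := congrArg φ₂ hsum
    simp only [map_add, map_mul, map_sub, map_pow, (hφ₂ e).2 he₂, (hφ₂ a).2 ha₂] at h
    simp only [u, ξ, map_div₀, map_pow, hj₂, map_neg]
    rw [div_eq_iff (pow_ne_zero _ fun h0 => hx0 ((map_eq_zero j₂).1 ((hj₂ x).trans h0)))]
    linear_combination h
  have hax : φ₁ a * φ₁ c = φ₁ (algebraMap R C x) ^ k := by
    rw [← map_pow, ← hxk, map_add, (hφ₁ p₁).2 hp₁, map_mul, zero_add, mul_comm]
  have hu₁ : j₁ (u * ξ x) * φ₁ c = φ₁ (1 - algebraMap R C x * d * c) := by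
    have h := congrArg φ₁ hsum
    simp only [map_add, map_mul, map_sub, map_pow, (hφ₁ e).2 he₁] at h
    have hne0 : φ₁ (algebraMap R C x) ≠ 0 := fun h0 => hx0 ((map_eq_zero j₁).1 ((hj₁ x).trans h0))
    simp only [u, ξ, map_div₀, map_mul, map_pow, map_sub, map_one, hj₁]
    field_simp
    linear_combination (φ₁ c * φ₁ (algebraMap R C x)) * h + φ₁ (algebraMap R C x) * hax
  have hcv : V₁.valuation (φ₁ c) ≤ 1 := (V₁.valuation_le_one_iff _).mpr (hC₁ c)
  have hunit : V₁.valuation (φ₁ (1 - algebraMap R C x * d * c)) = 1 := by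
    rw [map_sub, map_one]
    exact V₁.valuation.map_one_sub_of_lt (hm₁ _ (Ideal.mul_mem_right _ _ (Ideal.mul_mem_right _ _
      (hmap ▸ Ideal.mem_map_of_mem _ hxm))))
  have hxv : V₁.valuation (j₁ (ξ x)) < 1 := by
    rw [hj₁]; exact hm₁ _ (hmap ▸ Ideal.mem_map_of_mem _ hxm)
  -- `u` is not in `W`, so its inverse is in the maximal ideal
  have huW : ¬ ∃ w : W, w.1 = u := by
    rintro ⟨w, hw⟩
    have h1 : V₁.valuation (j₁ u) ≤ 1 := (V₁.valuation_le_one_iff _).mpr (hw ▸ hW₁ w)
    have h2 := congrArg V₁.valuation hu₁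
    rw [hunit, map_mul j₁, map_mul, map_mul] at h2
    exact ((mul_le_of_le_one_right zero_le' hcv).trans_lt ((mul_le_of_le_one_left zero_le' h1).trans_lt hxv)).ne h2
  haveI : IsFractionRing W K := integralClosure.isFractionRing_of_finite_extension K K
  haveI : IsPrincipalIdealRing W := IsPrincipalIdealRing.of_finite_primes
    (Set.Finite.subset ((Set.finite_singleton (maximalIdeal W)).insert ⊥) fun J hJ => by
      rcases eq_or_ne J ⊥ with h | h
      · exact Or.inl h
      · exact Or.inr (IsLocalRing.eq_maximalIdeal (Ring.DimensionLEOne.maximalOfPrime h hJ)))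
  haveI : ValuationRing W := ValuationRing.iff_local_bezout_domain.2 ⟨inferInstance, inferInstance⟩
  obtain ⟨v, hv⟩ : ∃ v : W, v.1 = u⁻¹ := by
    rcases ValuationRing.isInteger_or_isInteger W u with ⟨v, hv⟩ | ⟨v, hv⟩
    · exact absurd ⟨v, hv⟩ huW
    · exact ⟨v, hv⟩
  have hu0 : u ≠ 0 := fun h => huW ⟨0, h.symm⟩
  have hvm : v ∈ maximalIdeal W := fun hvu => by
    obtain ⟨v', hv'⟩ := isUnit_iff_exists_inv.1 hvu
    refine huW ⟨v', ?_⟩
    have h : v.1 * v'.1 = 1 := congrArg Subtype.val hv'
    rw [hv] at h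
    rwa [inv_mul_eq_one₀ hu0, eq_comm] at h
  let X : W := algebraMap D W (Ideal.Quotient.mk q x)
  have hX : X.1 = ξ x := rfl
  have hX0 : X ≠ 0 := fun h => hx0 (hX ▸ congrArg Subtype.val h)
  obtain ⟨i, hi⟩ : v ∈ (Ideal.span {X}).radical := by
    rw [Ideal.radical_eq_sInf, Ideal.mem_sInf]
    rintro J ⟨hle, hJ⟩
    have hJ0 : J ≠ ⊥ := fun h => hX0 (h ▸ hle (Ideal.mem_span_singleton_self X) : X ∈ (⊥ : Ideal W))
    exact (IsLocalRing.eq_maximalIdeal (Ring.DimensionLEOne.maximalOfPrime hJ0 hJ)) ▸ hvm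
  obtain ⟨t, ht⟩ := Ideal.mem_span_singleton'.1 hi
  have h1 : φ₂ (-d) ^ i * (j₂ t.1 * j₂ (ξ x)) = 1 := by
    have h := congrArg (fun w : W => j₂ w.1) ht
    simp only [MulMemClass.coe_mul, SubmonoidClass.coe_pow, map_mul, map_pow, hX, hv] at h
    rw [h, ← hu₂, ← mul_pow, ← map_mul, mul_inv_cancel₀ hu0, map_one, one_pow]
  have hxv₂ : V₂.valuation (j₂ (ξ x)) < 1 := by
    rw [hj₂]; exact hm₂ _ (hmap ▸ Ideal.mem_map_of_mem _ hxm)
  have h2 := congrArg V₂.valuation h1
  rw [map_one, map_mul, map_pow, map_mul] at h2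
  exact ((mul_le_of_le_one_left zero_le' (pow_le_one' ((V₂.valuation_le_one_iff _).mpr (hC₂ _)) i)).trans_lt
    ((mul_le_of_le_one_left zero_le' ((V₂.valuation_le_one_iff _).mpr (hW₂ t))).trans_lt hxv₂)).ne h2

theorem injOn_comap {R C : Type u} [CommRing R] [HenselianLocalRing R] [IsNoetherianRing R] [Ring.KrullDimLE 1 R]
    [CommRing C] [IsLocalRing C] [Ring.KrullDimLE 1 C] [Algebra R C] [IsLocalHom (algebraMap R C)]
    (hmap : (maximalIdeal R).map (algebraMap R C) = maximalIdeal C)
    (hres : ∀ z : C, ∃ r, z - algebraMap R C r ∈ maximalIdeal C) :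
    Set.InjOn (fun P : Ideal C => P.comap (algebraMap R C)) (minimalPrimes C) :=
  fun _ h₁ _ h₂ he => eq_of_comap_eq hmap hres h₁ h₂ he

/-- Minimal primes of a one-dimensional henselian ring and of its completion. -/
theorem encard_minimalPrimes_completion (R : Type u) [CommRing R] [HenselianLocalRing R] [IsNoetherianRing R]
    (hR : ringKrullDim R ≤ 1) :
    (minimalPrimes (AdicCompletion (maximalIdeal R) R)).encard = (minimalPrimes R).encard := by
  haveI : Ring.KrullDimLE 1 R := Ring.krullDimLE_iff.2 (by simpa using hR)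
  haveI : Ring.KrullDimLE 1 (AdicCompletion (maximalIdeal R) R) :=
    Ring.krullDimLE_iff.2 (by rw [LocCoh.ringKrullDim_adicCompletion]; simpa using hR)
  obtain ⟨hloc, hres⟩ := ConnFlat.exists_sub_mem_cpl R
  haveI := hloc
  haveI : Module.FaithfullyFlat R (AdicCompletion (maximalIdeal R) R) := Module.FaithfullyFlat.of_flat_of_isLocalHom
  rw [← image_comap_minimalPrimes (R := R) (S := AdicCompletion (maximalIdeal R) R)]
  exact ((injOn_comap AdicCompletion.maximalIdeal_eq_map.symm hres).encard_image).symm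

/-- Flat local maps with trivial closed fibre and residue extension preserve completions. -/
theorem exists_completion_equiv {R T : Type u} [CommRing R] [IsLocalRing R] [CommRing T] [IsLocalRing T]
    [Algebra R T] [Module.FaithfullyFlat R T]
    (hmap : (maximalIdeal R).map (algebraMap R T) = maximalIdeal T)
    (hres : ∀ z : T, ∃ r, z - algebraMap R T r ∈ maximalIdeal T) :
    Nonempty (AdicCompletion (maximalIdeal R) R ≃+* AdicCompletion (maximalIdeal T) T) := by
  refine ⟨RingEquiv.ofBijective _ (AdicRing.bijective_complMap_of_levels (maximalIdeal R) (maximalIdeal T)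
    (algebraMap R T) hmap.le fun n => ⟨Ideal.quotientMap_injective' ?_, fun y => ?_⟩)⟩
  · rw [← hmap, ← Ideal.map_pow, Ideal.comap_map_eq_self_of_faithfullyFlat]
  · obtain ⟨y, rfl⟩ := Ideal.Quotient.mk_surjective y
    obtain ⟨r, hr⟩ := CAlgH.exists_sub_mem_pow (algebraMap R T) hmap hres n y
    exact ⟨Ideal.Quotient.mk _ r, (Ideal.Quotient.eq.mpr hr).symm⟩

theorem exists_sub_mem_localH (A : Type u) [CommRing A] [IsLocalRing A] (z : LocalH A) :
    ∃ a, z - algebraMap A (LocalH A) a ∈ maximalIdeal (LocalH A) := by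
  obtain ⟨a, ha⟩ := Ideal.Quotient.mk_surjective (hullPt A (A ⧸ maximalIdeal A) z)
  refine ⟨a, ?_⟩
  letI : Field (A ⧸ maximalIdeal A) := Ideal.Quotient.field _
  rw [show maximalIdeal (LocalH A) = RingHom.ker (hullPt A (A ⧸ maximalIdeal A)) from maximalIdeal_hull,
    RingHom.mem_ker, map_sub, AlgHom.commutes]
  exact sub_eq_zero.2 ha.symm

theorem numBranches_completion (A : Type u) [CommRing A] [IsLocalRing A] [IsNoetherianRing A]
    (hA : ringKrullDim A ≤ 1) :
    Brnch.numBranches (AdicCompletion (maximalIdeal A) A) = Brnch.numBranches A := by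
  haveI := isHenselization_localH (R := A)
  haveI := (isHenselization_localH (R := A)).henselian
  haveI := isNoetherianRing_localH (R := A)
  have hm : (maximalIdeal A).map (algebraMap A (LocalH A)) = maximalIdeal (LocalH A) :=
    HenselLib.HensBase.map_maximalIdeal_of_isHenselization A (LocalH A)
  obtain ⟨e⟩ := exists_completion_equiv (R := A) (T := LocalH A) hm (exists_sub_mem_localH A)
  haveI : IsLocalHom (algebraMap (AdicCompletion (maximalIdeal A) A) (AdicCompletion (maximalIdeal A) A)) :=
    ⟨fun _ h => h⟩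
  haveI : HenselianLocalRing (AdicCompletion (maximalIdeal A) A) := Disc12.henselianLocalRing_completion A
  haveI := HenselLib.LocalInt.isHenselization_self (AdicCompletion (maximalIdeal A) A)
  rw [← numBranches_eq (A := A) (LocalH A),
    ← numBranches_eq (A := AdicCompletion (maximalIdeal A) A) (AdicCompletion (maximalIdeal A) A),
    encard_minimalPrimes_congr e]
  exact encard_minimalPrimes_completion (LocalH A)
    ((Et18.ringKrullDim_eq_of_flat_of_map_maximalIdeal A (LocalH A) hm).trans_le hA)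

theorem numGeomBranches_completion (A : Type u) [CommRing A] [IsLocalRing A] [IsNoetherianRing A]
    (hA : ringKrullDim A ≤ 1) :
    Brnch.numGeomBranches (AdicCompletion (maximalIdeal A) A) = Brnch.numGeomBranches A := by
  haveI hlB : IsLocalHom (algebraMap A (AdicCompletion (maximalIdeal A) A)) := (ConnFlat.exists_sub_mem_cpl A).1
  let B := AdicCompletion (maximalIdeal A) A
  haveI : IsNoetherianRing B := Matlis6.isNoetherianRing_adicCompletion (maximalIdeal A)
  haveI hS := isStrictHenselization_localSH (R := A)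
  haveI hT := isStrictHenselization_localSH (R := B)
  let S := LocalSH A
  let T := LocalSH B
  let f : A →+* T := (algebraMap B T).comp (algebraMap A B)
  haveI hf : IsLocalHom f := RingHom.isLocalHom_comp _ _
  haveI := hS.isSepClosure
  haveI := hT.isSepClosure
  haveI : IsSepClosed (ResidueField T) := IsSepClosure.sep_closed (ResidueField B)
  haveI : IsSepClosed (ResidueField S) := IsSepClosure.sep_closed (ResidueField A)
  letI : Algebra (ResidueField A) (ResidueField T) := (ResidueField.map f).toAlgebra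
  let τ : ResidueField S →ₐ[ResidueField A] ResidueField T := IsSepClosed.lift
  have hτ : τ.toRingHom.comp (ResidueField.map (algebraMap A S)) = ResidueField.map f := τ.comp_algebraMap
  haveI := hT.henselian
  haveI := hS.henselian
  obtain ⟨g, ⟨hg, hgres⟩, -⟩ := hS.universal T f τ.toRingHom hτ
  letI : Algebra A T := f.toAlgebra
  letI : Algebra S T := g.toAlgebra
  haveI : IsScalarTower A B T := IsScalarTower.of_algebraMap_eq fun _ => rfl
  haveI : IsScalarTower A S T := IsScalarTower.of_algebraMap_eq fun r => (RingHom.congr_fun hg r).symm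
  have hmB : (maximalIdeal A).map (algebraMap A B) = maximalIdeal B := AdicCompletion.maximalIdeal_eq_map.symm
  have hmS := HenselLib.HensBase.map_maximalIdeal_of_isStrictHenselization A S
  have hmT := HenselLib.HensBase.map_maximalIdeal_of_isStrictHenselization B T
  have hmST : (maximalIdeal S).map g = maximalIdeal T := by
    rw [← hmS, Ideal.map_map, hg, ← Ideal.map_map, hmB, hmT]
  haveI : IsLocalHom (algebraMap S T) := ((IsLocalRing.local_hom_TFAE g).out 0 2).2 hmST.le
  haveI := weaklyEtale_of_isStrictHenselization B T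
  haveI := weaklyEtale_of_isStrictHenselization A S
  haveI : Module.Flat A T := Module.Flat.trans A B T
  haveI : Module.FaithfullyFlat S T := faithfullyFlat_of_weaklyEtale (A := A)
  -- the residue extension is trivial
  letI : Algebra (ResidueField S) (ResidueField T) := τ.toRingHom.toAlgebra
  haveI : IsScalarTower (ResidueField A) (ResidueField S) (ResidueField T) :=
    IsScalarTower.of_algebraMap_eq fun r => (RingHom.congr_fun hτ r).symm
  haveI : Algebra.IsSeparable (ResidueField A) (ResidueField T) := by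
    haveI : IsScalarTower (ResidueField A) (ResidueField B) (ResidueField T) :=
      IsScalarTower.of_algebraMap_eq fun r => by
        obtain ⟨r, rfl⟩ := IsLocalRing.residue_surjective r
        rfl
    haveI : Algebra.IsSeparable (ResidueField A) (ResidueField B) := ⟨fun y => by
      obtain ⟨b, rfl⟩ := IsLocalRing.residue_surjective y
      obtain ⟨a, ha⟩ := (ConnFlat.exists_sub_mem_cpl A).2 b
      rw [show residue B b = algebraMap (ResidueField A) (ResidueField B) (residue A a) from
        Ideal.Quotient.eq.2 ha]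
      exact isSeparable_algebraMap _⟩
    haveI : Algebra.IsSeparable (ResidueField B) (ResidueField T) := hT.isSepClosure.separable
    exact Algebra.IsSeparable.trans (ResidueField A) (ResidueField B) (ResidueField T)
  haveI : Algebra.IsSeparable (ResidueField S) (ResidueField T) :=
    Algebra.isSeparable_tower_top_of_isSeparable (ResidueField A) (ResidueField S) (ResidueField T)
  have hres : ∀ z : T, ∃ s, z - algebraMap S T s ∈ maximalIdeal T := fun z => by
    obtain ⟨y, hy⟩ := IsSepClosed.algebraMap_surjective (ResidueField S) (ResidueField T) (residue T z)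
    obtain ⟨s, rfl⟩ := IsLocalRing.residue_surjective y
    exact ⟨s, Ideal.Quotient.eq.1 (hy.symm.trans (hgres s).symm)⟩
  obtain ⟨e⟩ := exists_completion_equiv (R := S) (T := T) hmST hres
  haveI := isNoetherianRing_localSH (R := A)
  haveI := isNoetherianRing_localSH (R := B)
  have hdS : ringKrullDim S ≤ 1 := (Et18.ringKrullDim_eq_of_flat_of_map_maximalIdeal A S hmS).trans_le hA
  have hdT : ringKrullDim T ≤ 1 := (Et18.ringKrullDim_eq_of_flat_of_map_maximalIdeal B T hmT).trans_le
    ((LocCoh.ringKrullDim_adicCompletion A).trans_le hA)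
  rw [← numGeomBranches_eq (A := A) S, ← numGeomBranches_eq (A := B) T,
    ← encard_minimalPrimes_completion S hdS, ← encard_minimalPrimes_completion T hdT]
  exact (encard_minimalPrimes_congr e).symm

end Groth.Agent.EGA43.BranchCount
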