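import Groth.Agent.EGA43.BranchCount.Main
import Groth.Agent.EGA43.UnibranchEtaleNbhd.Scheme

/-!
# Branches and étale neighbourhoods (Stacks 0C2B and its counting form)
-/

set_option autoImplicit false
set_option backward.isDefEq.respectTransparency false
set_option linter.style.haveILetI false

universe u

open CategoryTheory CategoryTheory.Limits AlgebraicGeometry IsLocalRing TopologicalSpace Opposite

namespace Groth.Agent.EGA43.BranchCount

open Groth.Agent Groth.Agent.HenselLib FlatMorWeight EGA43.UnibranchEtaleNbhd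

section Hull

variable {R : Type u} [CommRing R] {K : Type u} [Field K] [Algebra R K]

theorem mem_image_comap_stage (T : Pt R K) {P : Ideal T.Ring} (hP : P ∈ minimalPrimes T.Ring)
    (hle : P ≤ RingHom.ker T.pt) :
    P ∈ (fun Q : Ideal (Hull R K) => Q.comap (ι T).toRingHom) '' minimalPrimes (Hull R K) := by
  haveI := isLocalRing_hull (R := R) (K := K)
  letI : Algebra T.Ring (Hull R K) := (ι T).toRingHom.toAlgebra
  haveI : Module.Flat T.Ring (Hull R K) := RingHom.flat_algebraMap_iff.1 (flat_of_algHom (ι T))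
  have hm : (maximalIdeal (Hull R K)).comap (algebraMap T.Ring (Hull R K)) = RingHom.ker T.pt := by
    rw [maximalIdeal_hull]
    ext z
    show hullPt R K (ι T z) = 0 ↔ T.pt z = 0
    rw [hullPt_ι]
  haveI := hP.1.1
  haveI : (RingHom.ker T.pt).IsPrime := RingHom.ker_isPrime _
  haveI : (maximalIdeal (Hull R K)).LiesOver (RingHom.ker T.pt) := ⟨hm.symm⟩
  obtain ⟨Q, hQle, hQp, hQ⟩ := Ideal.exists_ideal_le_liesOver_of_le (p := P) (q := RingHom.ker T.pt)
    (maximalIdeal (Hull R K)) hle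
  obtain ⟨Q', hQ', hQ'le⟩ := Ideal.exists_minimalPrimes_le (I := ⊥) (J := Q) bot_le
  have h := comap_ι_mem_minimalPrimes T hQ'
  have hle' : Q'.comap (ι T).toRingHom ≤ P := hQ.over ▸ Ideal.comap_mono hQ'le
  exact ⟨Q', hQ', le_antisymm hle' (hP.2 h.1 hle')⟩

theorem stage_encard_le (T : Pt R K) :
    {P ∈ minimalPrimes T.Ring | P ≤ RingHom.ker T.pt}.encard ≤ (minimalPrimes (Hull R K)).encard :=
  (Set.encard_le_encard fun _ hP => mem_image_comap_stage T hP.1 hP.2).trans (Set.encard_image_le _ _)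

/-- The minimal primes of the hull are counted on the stages. -/
theorem encard_minimalPrimes_hull :
    (minimalPrimes (Hull R K)).encard =
      ⨆ T : Pt R K, {P ∈ minimalPrimes T.Ring | P ≤ RingHom.ker T.pt}.encard := by
  classical
  refine le_antisymm (ENat.forall_natCast_le_iff_le.1 fun n hn => ?_) (iSup_le stage_encard_le)
  obtain ⟨t, ht, hcard⟩ := Set.exists_subset_encard_eq hn
  have htf : t.Finite := Set.finite_of_encard_eq_coe hcard
  have hx : ∀ Q Q' : Ideal (Hull R K), ∃ x, ¬ Q ≤ Q' → x ∈ Q ∧ x ∉ Q' := fun Q Q' => by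
    by_cases h : Q ≤ Q'
    · exact ⟨0, fun h' => absurd h h'⟩
    · obtain ⟨x, hx, hx'⟩ := SetLike.not_le_iff_exists.1 h
      exact ⟨x, fun _ => ⟨hx, hx'⟩⟩
  choose f hf using hx
  obtain ⟨T, y, hy⟩ := exists_rep_finset (htf.toFinset ×ˢ htf.toFinset) fun p => f p.1 p.2
  refine hcard ▸ le_trans ?_ (le_iSup (fun T : Pt R K =>
    {P ∈ minimalPrimes T.Ring | P ≤ RingHom.ker T.pt}.encard) T)
  refine Set.encard_le_encard_of_injOn (f := fun Q : Ideal (Hull R K) => Q.comap (ι T).toRingHom)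
    (fun Q hQ => ⟨comap_ι_mem_minimalPrimes T (ht hQ), comap_ι_le T (ht hQ).1.1⟩) fun Q hQ Q' hQ' he => ?_
  by_contra hne
  have hle : ¬ Q ≤ Q' := fun h => hne (le_antisymm h ((ht hQ').2 (ht hQ).1 h))
  obtain ⟨h1, h2⟩ := hf Q Q' hle
  have hy' := hy (Q, Q') (Finset.mem_product.2 ⟨htf.mem_toFinset.2 hQ, htf.mem_toFinset.2 hQ'⟩)
  have h3 : y (Q, Q') ∈ Q.comap (ι T).toRingHom := by
    show ι T (y (Q, Q')) ∈ Q
    rwa [hy']
  exact h2 (hy' ▸ (SetLike.ext_iff.1 he (y (Q, Q'))).1 h3)

end Hull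

/-- An étale algebra point has a geometric point in any separably closed field over the base point. -/
theorem exists_algHom_ker_eq {R B K : Type u} [CommRing R] [CommRing B] [Algebra R B] [Algebra.Etale R B]
    [Field K] [Algebra R K] [IsSepClosed K] (Q : Ideal B) [Q.IsPrime]
    (h : RingHom.ker (algebraMap R K) = Q.comap (algebraMap R B)) :
    ∃ σ : B →ₐ[R] K, RingHom.ker σ.toRingHom = Q := by
  let p := Q.comap (algebraMap R B)
  haveI : Q.LiesOver p := ⟨rfl⟩
  letI := Localization.AtPrime.algebraOfLiesOver p Q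
  haveI : Algebra.IsSeparable p.ResidueField Q.ResidueField := inferInstance
  let φ : p.ResidueField →+* K :=
    Ideal.ResidueField.lift p (algebraMap R K) h.ge fun r hr => Ne.isUnit fun h0 => hr (h.le h0)
  letI := φ.toAlgebra
  let τ : Q.ResidueField →ₐ[p.ResidueField] K := IsSepClosed.lift
  refine ⟨{ τ.toRingHom.comp (algebraMap B Q.ResidueField) with commutes' := fun r => ?_ }, ?_⟩
  · show τ (algebraMap B Q.ResidueField (algebraMap R B r)) = _
    rw [← IsScalarTower.algebraMap_apply R B Q.ResidueField,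
      IsScalarTower.algebraMap_apply R p.ResidueField Q.ResidueField, τ.commutes]
    exact Ideal.ResidueField.lift_algebraMap ..
  · show RingHom.ker (τ.toRingHom.comp (algebraMap B Q.ResidueField)) = Q
    rw [RingHom.ker_comp_of_injective _ τ.toRingHom.injective, Ideal.ker_algebraMap_residueField]

section Components

theorem encard_components_eq {U : Scheme.{u}} (u : U) :
    {Z : Set ↑U | Z ∈ irreducibleComponents ↑U ∧ u ∈ Z}.encard = {a : U | IsMaximalPt a ∧ a ⤳ u}.encard := by
  have him : (fun a : U => closure ({a} : Set U)) '' {a : U | IsMaximalPt a ∧ a ⤳ u} =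
      {Z : Set ↑U | Z ∈ irreducibleComponents ↑U ∧ u ∈ Z} := by
    ext Z
    constructor
    · rintro ⟨a, ⟨ha, hau⟩, rfl⟩
      refine ⟨?_, hau.mem_closure⟩
      obtain ⟨η, hη, W, hW, hgen⟩ := exists_isMaximalPt_specializes a
      show closure ({a} : Set U) ∈ irreducibleComponents ↑U
      rw [← ha η hη]
      exact hgen.symm ▸ hW
    · rintro ⟨hZ, hu⟩
      have hg := hZ.1.isGenericPoint_genericPoint_closure
      rw [(isClosed_of_mem_irreducibleComponents Z hZ).closure_eq] at hg
      exact ⟨_, ⟨isMaximalPt_of_isGenericPoint hZ hg, hg.specializes hu⟩, hg⟩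
  rw [← him]
  refine Set.InjOn.encard_image fun a _ b _ h => ?_
  exact IsGenericPoint.eq (S := closure ({b} : Set U)) h rfl

theorem encard_components_chart {U : Scheme.{u}} {N : U.Opens} (hN : IsAffineOpen N) {u : U} (huN : u ∈ N) :
    {Z : Set ↑U | Z ∈ irreducibleComponents ↑U ∧ u ∈ Z}.encard =
      {P ∈ minimalPrimes Γ(U, N) | P ≤ (hN.primeIdealOf ⟨u, huN⟩).asIdeal}.encard := by
  rw [encard_components_eq]
  refine Set.encard_congr (Equiv.ofBijective (fun a => ⟨(hN.primeIdealOf ⟨a.1, a.2.2.mem_open N.2 huN⟩).asIdeal,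
    mem_minimalPrimes_primeIdealOf hN ⟨a.1, _⟩ a.2.1, (primeIdealOf_le_iff hN ⟨a.1, _⟩ ⟨u, huN⟩).2 a.2.2⟩)
    ⟨fun a b h => Subtype.ext ?_, fun P => ?_⟩)
  · have h' := congrArg hN.fromSpec (PrimeSpectrum.ext (congrArg Subtype.val h))
    rwa [hN.fromSpec_primeIdealOf, hN.fromSpec_primeIdealOf] at h'
  · obtain ⟨P, hP, hle⟩ := P
    let a : U := hN.fromSpec (⟨P, hP.1.1⟩ : PrimeSpectrum Γ(U, N))
    have haN : a ∈ N := by
      have : a ∈ Set.range hN.fromSpec := ⟨_, rfl⟩
      rwa [hN.range_fromSpec] at this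
    have hpa : hN.primeIdealOf ⟨a, haN⟩ = ⟨P, hP.1.1⟩ :=
      hN.fromSpec.isOpenEmbedding.injective (hN.fromSpec_primeIdealOf ⟨a, haN⟩)
    have hau : a ⤳ u := (primeIdealOf_le_iff hN ⟨a, haN⟩ ⟨u, huN⟩).1 ((congrArg PrimeSpectrum.asIdeal hpa).le.trans hle)
    have hmax : IsMaximalPt a := fun z hz => by
      have hzN : z ∈ N := hz.mem_open N.2 haN
      have h1 : (hN.primeIdealOf ⟨z, hzN⟩).asIdeal ≤ P :=
        ((primeIdealOf_le_iff hN ⟨z, hzN⟩ ⟨a, haN⟩).2 hz).trans (congrArg PrimeSpectrum.asIdeal hpa).le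
      have h2 : hN.primeIdealOf ⟨z, hzN⟩ = ⟨P, hP.1.1⟩ :=
        PrimeSpectrum.ext (le_antisymm h1 (hP.2 ⟨(hN.primeIdealOf ⟨z, hzN⟩).2, bot_le⟩ h1))
      exact ((hN.fromSpec_primeIdealOf ⟨z, hzN⟩).symm.trans (congrArg hN.fromSpec h2))
    exact ⟨⟨a, hmax, hau⟩, Subtype.ext (congrArg PrimeSpectrum.asIdeal hpa)⟩

theorem encard_components_spec (T : Type u) [CommRing T] (q : Ideal T) [q.IsPrime] :
    {Z : Set ↥(Spec (CommRingCat.of T)) | Z ∈ irreducibleComponents ↥(Spec (CommRingCat.of T)) ∧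
      (⟨q, inferInstance⟩ : PrimeSpectrum T) ∈ Z}.encard = {P ∈ minimalPrimes T | P ≤ q}.encard := by
  refine (encard_components_eq (U := Spec (CommRingCat.of T)) (⟨q, inferInstance⟩ : PrimeSpectrum T)).trans ?_
  refine Set.encard_congr (Equiv.ofBijective (fun a => ⟨(show PrimeSpectrum T from a.1).asIdeal,
      ⟨⟨(show PrimeSpectrum T from a.1).2, bot_le⟩, fun J hJ hle =>
        (congrArg PrimeSpectrum.asIdeal (a.2.1 (⟨J, hJ.1⟩ : PrimeSpectrum T)
          ((PrimeSpectrum.le_iff_specializes (R := T) ⟨J, hJ.1⟩ a.1).1 hle))).ge⟩,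
      (PrimeSpectrum.le_iff_specializes (R := T) a.1 ⟨q, inferInstance⟩).2 a.2.2⟩)
    ⟨fun a b h => Subtype.ext (PrimeSpectrum.ext (congrArg Subtype.val h)), fun P => ?_⟩)
  · obtain ⟨P, hP, hle⟩ := P
    refine ⟨⟨(⟨P, hP.1.1⟩ : PrimeSpectrum T), fun z hz => ?_,
      (PrimeSpectrum.le_iff_specializes (R := T) ⟨P, hP.1.1⟩ ⟨q, inferInstance⟩).1 hle⟩, rfl⟩
    have h1 : z.asIdeal ≤ P := (PrimeSpectrum.le_iff_specializes (R := T) z ⟨P, hP.1.1⟩).2 hz
    exact PrimeSpectrum.ext (le_antisymm h1 (hP.2 ⟨z.2, bot_le⟩ h1))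

/-- A field point of an affine chart bounds the components by the minimal primes of the hull. -/
theorem encard_components_le_hull {U : Scheme.{u}} {N : U.Opens} (hN : IsAffineOpen N) {u : U} (huN : u ∈ N)
    {R K : Type u} [CommRing R] [Algebra R Γ(U, N)] [Algebra.Etale R Γ(U, N)] [Field K] [Algebra R K]
    (σ : Γ(U, N) →ₐ[R] K) (hσ : RingHom.ker σ.toRingHom = (hN.primeIdealOf ⟨u, huN⟩).asIdeal) :
    {Z : Set ↑U | Z ∈ irreducibleComponents ↑U ∧ u ∈ Z}.encard ≤ (minimalPrimes (Hull R K)).encard := by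
  obtain ⟨T, i, hi⟩ := Pt.exists_equiv Γ(U, N) σ
  rw [encard_components_chart hN huN]
  refine le_trans ?_ (stage_encard_le T)
  refine Set.encard_le_encard_of_injOn (f := fun P => P.comap i.toRingHom) (fun P hP => ⟨?_, ?_⟩)
    (Ideal.comap_injective_of_surjective i.toRingHom i.surjective).injOn
  · haveI := hP.1.1.1
    show P.comap i.toRingHom ∈ (⊥ : Ideal T.Ring).minimalPrimes
    have h := Ideal.comap_minimalPrimes_eq_of_surjective (f := i.toRingHom) i.surjective (⊥ : Ideal Γ(U, N))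
    rw [Ideal.comap_bot_of_injective i.toRingHom i.injective] at h
    rw [h]
    exact ⟨P, hP.1, rfl⟩
  · intro z hz
    have h2 : i z ∈ RingHom.ker σ.toRingHom := hσ ▸ hP.2 hz
    rw [RingHom.mem_ker, ← hi]
    exact h2

end Components

section Stalk

variable {R : Type u} [CommRing R] (p : Ideal R) [p.IsPrime] (O : Type u) [CommRing O] [IsLocalRing O]
  [Algebra R O] [IsLocalization.AtPrime O p]

theorem numBranches_eq_hull : Brnch.numBranches O = (minimalPrimes (Hull R p.ResidueField)).encard := by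
  haveI hOh := isHenselization_localH (R := O)
  let e : Localization.AtPrime p ≃ₐ[R] O := IsLocalization.algEquiv p.primeCompl _ _
  letI : Algebra (Localization.AtPrime p) (LocalH O) := ((algebraMap O (LocalH O)).comp e.toRingHom).toAlgebra
  letI : Algebra R (LocalH O) := ((algebraMap O (LocalH O)).comp (algebraMap R O)).toAlgebra
  haveI : IsScalarTower R (Localization.AtPrime p) (LocalH O) :=
    .of_algebraMap_eq fun r => (congrArg (algebraMap O (LocalH O)) (e.commutes r)).symm
  haveI hl : IsLocalHom (algebraMap (Localization.AtPrime p) (LocalH O)) := ⟨fun z hz => by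
    have h1 : IsUnit (e z) := IsLocalHom.map_nonunit (f := algebraMap O (LocalH O)) _ hz
    exact (isUnit_map_iff e z).1 h1⟩
  haveI : Hensel.IsHenselization (Localization.AtPrime p) (LocalH O) :=
    { henselian := hOh.henselian
      universal := fun T _ _ f hf => by
        haveI : IsLocalHom (f.comp e.symm.toRingHom) := ⟨fun z hz =>
          (isUnit_map_iff e.symm z).1 (hf.map_nonunit _ hz)⟩
        obtain ⟨g, hg, huq⟩ := hOh.universal T (f.comp e.symm.toRingHom) inferInstance
        refine ⟨g, RingHom.ext fun z => ?_, fun g' hg' => huq g' (RingHom.ext fun z => ?_)⟩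
        · show g (algebraMap O _ (e z)) = f z
          exact (RingHom.congr_fun hg (e z)).trans (congrArg f (e.symm_apply_apply z))
        · show g' (algebraMap O _ z) = f (e.symm z)
          rw [← hg']
          show _ = g' (algebraMap O _ (e (e.symm z)))
          rw [e.apply_symm_apply] }
  obtain ⟨i⟩ := PtPrime.exists_equiv_hull p (LocalH O)
  rw [← numBranches_eq (A := O) (LocalH O)]
  exact encard_minimalPrimes_congr i.symm.toRingEquiv

theorem exists_field_numGeomBranches_eq : ∃ (K : Type u) (_ : Field K) (_ : IsSepClosed K) (_ : Algebra R K),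
    RingHom.ker (algebraMap R K) = p ∧ Brnch.numGeomBranches O = (minimalPrimes (Hull R K)).encard := by
  haveI hS := isStrictHenselization_localSH (R := O)
  letI : Algebra R (LocalSH O) := ((algebraMap O (LocalSH O)).comp (algebraMap R O)).toAlgebra
  haveI : IsScalarTower R O (LocalSH O) := .of_algebraMap_eq fun _ => rfl
  obtain ⟨i, -⟩ := Et18.SHull.exists_equiv (A := R) (R := LocalSH O) O p.primeCompl
  haveI := hS.isSepClosure
  refine ⟨ResidueField (LocalSH O), inferInstance, IsSepClosure.sep_closed (ResidueField O), inferInstance, ?_, ?_⟩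
  · ext r
    show residue (LocalSH O) (algebraMap O _ (algebraMap R O r)) = 0 ↔ r ∈ p
    rw [residue_eq_zero_iff, ← IsLocalization.AtPrime.to_map_mem_maximal_iff O p]
    exact map_mem_nonunits_iff _ _
  · rw [← numGeomBranches_eq (A := O) (LocalSH O)]
    exact encard_minimalPrimes_congr i.symm.toRingEquiv

end Stalk

section Chart

variable {X U : Scheme.{u}} (g : U ⟶ X) {W : X.Opens} {N : U.Opens} (e : N ≤ g ⁻¹ᵁ W) {u : U} (huN : u ∈ N)

theorem ev_appLE (r : Γ(X, W)) : (ev huN).hom ((g.appLE W N e).hom r) =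
    (g.residueFieldMap u).hom ((ev (x := g u) (e huN)).hom r) := by
  have hnat : g.appLE W N e ≫ U.presheaf.germ N u huN =
      X.presheaf.germ W (g u) (e huN) ≫ g.stalkMap u := by
    rw [Scheme.Hom.germ_stalkMap, Scheme.Hom.appLE, Category.assoc, TopCat.Presheaf.germ_res]
  exact (congrArg (fun k : Γ(X, W) ⟶ U.presheaf.stalk u => (U.residue u).hom (k.hom r)) hnat).trans
    (congrArg (fun k => k.hom ((X.presheaf.germ W (g u) (e huN)).hom r))
      (Scheme.residue_residueFieldMap g u)).symm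

theorem comap_primeIdealOf (hW : IsAffineOpen W) (hN : IsAffineOpen N) :
    (hN.primeIdealOf ⟨u, huN⟩).asIdeal.comap (g.appLE W N e).hom = (hW.primeIdealOf ⟨g u, e huN⟩).asIdeal := by
  rw [← ker_ev hW (e huN), ← ker_ev hN huN]
  ext r
  simp only [Ideal.mem_comap, RingHom.mem_ker, ev_appLE g e huN r]
  exact map_eq_zero_iff _ (RingHom.injective _)

end Chart

theorem numGeomBranchesAt_eq_iSup (X : Scheme.{u}) (x : X) :
    Brnch.numGeomBranchesAt X x = ⨆ (U : Scheme.{u}) (g : U ⟶ X) (u : U) (_ : Etale g ∧ g u = x),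
      {Z : Set ↑U | Z ∈ irreducibleComponents ↑U ∧ u ∈ Z}.encard := by
  obtain ⟨W, hW, hxW, -⟩ := exists_isAffineOpen_mem_and_subset (x := x) (U := ⊤) trivial
  letI := X.presheaf.algebra_section_stalk (⟨x, hxW⟩ : W)
  haveI := hW.isLocalization_stalk ⟨x, hxW⟩
  obtain ⟨K, _, _, _, hker, heq⟩ :=
    exists_field_numGeomBranches_eq (hW.primeIdealOf ⟨x, hxW⟩).asIdeal (X.presheaf.stalk x)
  rw [show Brnch.numGeomBranchesAt X x = _ from heq]
  refine le_antisymm ?_ (iSup_le fun U => iSup_le fun g => iSup_le fun u => iSup_le fun hg => ?_)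
  · rw [encard_minimalPrimes_hull]
    refine iSup_le fun T => ?_
    haveI : (RingHom.ker T.pt).IsPrime := RingHom.ker_isPrime _
    haveI := etale_chart hW T.Ring
    refine le_iSup_of_le (Spec (CommRingCat.of T.Ring)) <|
      le_iSup_of_le (Spec.map (CommRingCat.ofHom (algebraMap Γ(X, W) T.Ring)) ≫ hW.fromSpec) <|
      le_iSup_of_le (⟨RingHom.ker T.pt, inferInstance⟩ : PrimeSpectrum T.Ring) <|
      le_iSup_of_le ⟨inferInstance, ?_⟩ (encard_components_spec T.Ring (RingHom.ker T.pt)).ge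
    rw [Scheme.Hom.comp_apply]
    have h : Spec.map (CommRingCat.ofHom (algebraMap Γ(X, W) T.Ring))
        (⟨RingHom.ker T.pt, inferInstance⟩ : PrimeSpectrum T.Ring) = hW.primeIdealOf ⟨x, hxW⟩ := by
      refine PrimeSpectrum.ext ?_
      rw [← hker]
      ext r
      show T.pt (algebraMap Γ(X, W) T.Ring r) = 0 ↔ _
      rw [T.pt.commutes]
      rfl
    exact (congrArg hW.fromSpec h).trans (hW.fromSpec_primeIdealOf ⟨x, hxW⟩)
  · obtain ⟨hge, rfl⟩ := hg
    haveI := hge
    obtain ⟨N, hN, huN, e⟩ := exists_isAffineOpen_mem_and_subset (x := u) (U := g ⁻¹ᵁ W) hxW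
    algebraize [(g.appLE W N e).hom]
    haveI : Algebra.Etale Γ(X, W) Γ(U, N) := by
      have := HasRingHomProperty.appLE (P := @Etale) g inferInstance ⟨W, hW⟩ ⟨N, hN⟩ e
      exact RingHom.etale_algebraMap.1 this
    obtain ⟨σ, hσ⟩ := exists_algHom_ker_eq (R := Γ(X, W)) (K := K) (hN.primeIdealOf ⟨u, huN⟩).asIdeal
      (hker.trans (comap_primeIdealOf g e huN hW hN).symm)
    exact encard_components_le_hull hN huN σ hσ

theorem numBranchesAt_eq_iSup (X : Scheme.{u}) (x : X) :
    Brnch.numBranchesAt X x = ⨆ (U : Scheme.{u}) (g : U ⟶ X) (u : U) (_ : Hens2.IsEtaleNbhd g u x),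
      {Z : Set ↑U | Z ∈ irreducibleComponents ↑U ∧ u ∈ Z}.encard := by
  obtain ⟨W, hW, hxW, -⟩ := exists_isAffineOpen_mem_and_subset (x := x) (U := ⊤) trivial
  letI := X.presheaf.algebra_section_stalk (⟨x, hxW⟩ : W)
  haveI := hW.isLocalization_stalk ⟨x, hxW⟩
  rw [show Brnch.numBranchesAt X x = _ from
    numBranches_eq_hull (hW.primeIdealOf ⟨x, hxW⟩).asIdeal (X.presheaf.stalk x)]
  refine le_antisymm ?_ (iSup_le fun U => iSup_le fun g => iSup_le fun u => iSup_le fun hg => ?_)
  · rw [encard_minimalPrimes_hull]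
    refine iSup_le fun T => ?_
    haveI : (RingHom.ker T.pt).IsPrime := RingHom.ker_isPrime _
    haveI := etale_chart hW T.Ring
    let ψ : T.Ring →+* X.residueField x := (toResidue hW hxW).comp T.pt.toRingHom
    let σ : Spec (X.residueField x) ⟶ Spec (CommRingCat.of T.Ring) := Spec.map (CommRingCat.ofHom ψ)
    let g := Spec.map (CommRingCat.ofHom (algebraMap Γ(X, W) T.Ring)) ≫ hW.fromSpec
    have hσ : σ ≫ g = X.fromSpecResidueField x := by
      rw [← spec_toResidue_comp hW hxW]
      show Spec.map _ ≫ Spec.map _ ≫ _ = _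
      rw [← Category.assoc, ← Spec.map_comp]
      congr 2
      refine CommRingCat.hom_ext (RingHom.ext fun r => ?_)
      show toResidue hW hxW (T.pt (algebraMap Γ(X, W) T.Ring r)) = (ev hxW).hom r
      rw [T.pt.commutes]
      exact Ideal.ResidueField.lift_algebraMap ..
    have hn := FlatMor12.isEtaleNbhd_of_section g x σ hσ
    have hpt : σ (closedPoint (X.residueField x)) = (⟨RingHom.ker T.pt, inferInstance⟩ : PrimeSpectrum T.Ring) := by
      refine PrimeSpectrum.ext (Ideal.ext fun z => ?_)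
      show ψ z ∈ maximalIdeal (X.residueField x) ↔ T.pt z = 0
      rw [IsLocalRing.maximalIdeal_eq_bot, Ideal.mem_bot]
      exact map_eq_zero_iff (toResidue hW hxW) (RingHom.injective _)
    rw [hpt] at hn
    exact le_iSup_of_le (Spec (CommRingCat.of T.Ring)) <| le_iSup_of_le g <| le_iSup_of_le _ <|
      le_iSup_of_le hn (encard_components_spec T.Ring (RingHom.ker T.pt)).ge
  · haveI := hg.etale
    obtain ⟨rfl⟩ : g u = x ∧ True := ⟨hg.base_eq, trivial⟩
    obtain ⟨N, hN, huN, e⟩ := exists_isAffineOpen_mem_and_subset (x := u) (U := g ⁻¹ᵁ W) hxW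
    algebraize [(g.appLE W N e).hom]
    haveI : Algebra.Etale Γ(X, W) Γ(U, N) := by
      have := HasRingHomProperty.appLE (P := @Etale) g inferInstance ⟨W, hW⟩ ⟨N, hN⟩ e
      exact RingHom.etale_algebraMap.1 this
    let e₁ := RingEquiv.ofBijective _ (toResidue_bijective hW hxW)
    let e₂ := RingEquiv.ofBijective (g.residueFieldMap u).hom hg.residue_bijective
    let κ := (hW.primeIdealOf ⟨g u, hxW⟩).asIdeal.ResidueField
    let σ : Γ(U, N) →ₐ[Γ(X, W)] κ := { (e₁.symm.toRingHom.comp (e₂.symm.toRingHom.comp (ev huN).hom)) with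
      commutes' := fun r => by
        refine e₁.injective (e₂.injective ?_)
        show e₂ (e₁ (e₁.symm (e₂.symm ((ev huN).hom ((g.appLE W N e).hom r))))) = _
        rw [e₁.apply_symm_apply, e₂.apply_symm_apply, ev_appLE g e huN r]
        refine congrArg (g.residueFieldMap u).hom ?_
        show _ = toResidue hW hxW (algebraMap Γ(X, W) κ r)
        rw [toResidue, Ideal.ResidueField.lift_algebraMap] }
    refine encard_components_le_hull hN huN σ ?_
    rw [← ker_ev hN huN]
    ext t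
    show e₁.symm (e₂.symm ((ev huN).hom t)) = 0 ↔ (ev huN).hom t = 0
    simp only [map_eq_zero_iff _ (RingEquiv.injective _)]

end Groth.Agent.EGA43.BranchCount
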