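import Mathlib
import Groth.Prelude.Def_Brnch
import Groth.Agent.CAlgSmall.UnibranchHull
import Groth.Agent.EGA43.Branches.Completion
import Groth.Agent.Desc19b.NormalSmooth

/-! The minimal primes of the (strict) henselization count the (geometric) branches. -/

set_option autoImplicit false
set_option backward.isDefEq.respectTransparency false
set_option linter.style.haveILetI false

universe u

open TensorProduct IsLocalRing

namespace Groth.Agent.EGA43.BranchCount

open HenselLib CAlgSmall.UnibranchHull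

theorem encard_minimalPrimes_congr {R S : Type u} [CommRing R] [CommRing S] (e : R ≃+* S) :
    (minimalPrimes R).encard = (minimalPrimes S).encard := by
  have h : minimalPrimes R = Ideal.comap e.toRingHom '' minimalPrimes S := by
    show (⊥ : Ideal R).minimalPrimes = Ideal.comap e.toRingHom '' (⊥ : Ideal S).minimalPrimes
    rw [← Ideal.comap_minimalPrimes_eq_of_surjective (f := e.toRingHom) e.surjective,
      Ideal.comap_bot_of_injective e.toRingHom e.injective]
  rw [h, (Ideal.comap_injective_of_surjective e.toRingHom e.surjective).injOn.encard_image]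

theorem minimal_eq_of_normal {N T : Type u} [CommRing N] [CommRing T] [Algebra N T] [Algebra.Etale N T]
    (hT : EGA4.IsNormalRing T) {R : Type u} [CommRing R] [Algebra N R] [Module.Flat N R] (f : T →ₐ[N] R)
    {M Q : Ideal R} (hM : M.IsPrime) (hQ : Q ∈ minimalPrimes R) (l : Q ≤ M) :
    Q.comap f.toRingHom = RingHom.ker (algebraMap T (Localization.AtPrime (M.comap f.toRingHom))) := by
  haveI := hQ.1.1
  haveI := hM
  haveI := (hT (M.comap f.toRingHom)).1
  haveI hk : (RingHom.ker (algebraMap T (Localization.AtPrime (M.comap f.toRingHom)))).IsPrime :=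
    RingHom.ker_isPrime _
  have hker : RingHom.ker (algebraMap T (Localization.AtPrime (M.comap f.toRingHom))) ≤ Q.comap f.toRingHom := by
    intro w hw
    obtain ⟨s, hs⟩ := (IsLocalization.map_eq_zero_iff (M.comap f.toRingHom).primeCompl _ w).1 hw
    exact ((inferInstance : (Q.comap f.toRingHom).IsPrime).mem_or_mem (hs ▸ Submodule.zero_mem _)).resolve_left
      fun h => s.2 (Ideal.comap_mono l h)
  have hmin := comap_mem_minimalPrimes (R := N) (S := R) hQ
  have he : (Q.comap f.toRingHom).comap (algebraMap N T) = Q.comap (algebraMap N R) := by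
    rw [Ideal.comap_comap]
    congr 1
    exact f.comp_algebraMap
  refine (Algebra.QuasiFinite.eq_of_le_of_under_eq (R := N) _ _ hker ?_).symm
  show (RingHom.ker _).comap _ = (Q.comap f.toRingHom).comap _
  refine le_antisymm (Ideal.comap_mono hker) ?_
  rw [he]
  exact hmin.2 ⟨Ideal.IsPrime.comap _, bot_le⟩ ((Ideal.comap_mono hker).trans he.le)

/-- Maximal ideals under a map with trivial residue extensions. -/
theorem card_maximal_of_residual {N R : Type u} [CommRing N] [CommRing R] (u : N →+* R)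
    (hmk : ∀ z : R, ∃ c : N, ∀ (M : Ideal R), M.IsMaximal → z - u c ∈ M)
    (hlift : ∀ m : Ideal N, m.IsMaximal → ∃ Q : Ideal R, Q.IsPrime ∧ m ≤ Q.comap u) :
    ENat.card (MaximalSpectrum R) = ENat.card (MaximalSpectrum N) := by
  let f : MaximalSpectrum R → MaximalSpectrum N := fun M =>
    ⟨M.asIdeal.comap u, by
      haveI := M.isMaximal
      letI := Ideal.Quotient.field M.asIdeal
      have hs : Function.Surjective ((Ideal.Quotient.mk M.asIdeal).comp u) := by
        intro y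
        obtain ⟨z, rfl⟩ := Ideal.Quotient.mk_surjective y
        obtain ⟨c, hc⟩ := hmk z
        exact ⟨c, (Ideal.Quotient.eq.2 (hc M.asIdeal M.isMaximal)).symm⟩
      have := RingHom.ker_isMaximal_of_surjective _ hs
      rwa [← RingHom.comap_ker, Ideal.mk_ker] at this⟩
  refine ENat.card_congr (Equiv.ofBijective f ⟨fun M N h => ?_, fun m => ?_⟩)
  · refine MaximalSpectrum.ext (M.isMaximal.eq_of_le N.isMaximal.ne_top fun z hz => ?_)
    obtain ⟨c, hc⟩ := hmk z
    have h1 : u c ∈ M.asIdeal := mem_of_sub_mem hz (hc _ M.isMaximal)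
    have h2 : u c ∈ N.asIdeal := (SetLike.ext_iff.1 (congrArg MaximalSpectrum.asIdeal h) c).1 h1
    exact mem_of_sub_mem' h2 (hc _ N.isMaximal)
  · obtain ⟨Q, hQ, hmQ⟩ := hlift m.asIdeal m.isMaximal
    obtain ⟨M, hM, hle⟩ := Ideal.exists_le_maximal Q hQ.ne_top
    exact ⟨⟨M, hM⟩, MaximalSpectrum.ext ((m.isMaximal.eq_of_le (hM.isPrime.comap _).ne_top
      (hmQ.trans (Ideal.comap_mono hle))).symm)⟩

theorem exists_residual {A N H K : Type u} [CommRing A] [CommRing N] [Algebra A N] [CommRing H] [Algebra A H]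
    [CommRing K] [Algebra A K] (π : H →ₐ[A] K) (hK : Function.Surjective (algebraMap A K))
    (z : N ⊗[A] H) : ∃ c : N, ∀ (M : Ideal (N ⊗[A] H)),
      (∀ x, π x = 0 → (1 : N) ⊗ₜ[A] x ∈ M) → z - algebraMap N (N ⊗[A] H) c ∈ M := by
  induction z using TensorProduct.induction_on with
  | zero => exact ⟨0, fun M _ => by simp⟩
  | tmul n h =>
    obtain ⟨a, ha⟩ := hK (π h)
    refine ⟨a • n, fun M hM => ?_⟩
    have h0 := hM (h - algebraMap A H a) (by rw [map_sub, AlgHom.commutes, ha, sub_self])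
    have e : n ⊗ₜ[A] h - algebraMap N (N ⊗[A] H) (a • n) =
        (n ⊗ₜ[A] (1 : H)) * ((1 : N) ⊗ₜ[A] (h - algebraMap A H a)) := by
      rw [Algebra.TensorProduct.tmul_mul_tmul, mul_one, one_mul, TensorProduct.tmul_sub,
        Algebra.algebraMap_eq_smul_one a, ← TensorProduct.smul_tmul]
      rfl
    rw [e]
    exact Ideal.mul_mem_left _ _ h0
  | add x y hx hy =>
    obtain ⟨c, hc⟩ := hx
    obtain ⟨d, hd⟩ := hy
    refine ⟨c + d, fun M hM => ?_⟩
    rw [map_add, add_sub_add_comm]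
    exact M.add_mem (hc M hM) (hd M hM)

theorem minimal_le_of_stages {A N H : Type u} [CommRing A] [CommRing N] [Algebra A N] [CommRing H] [Algebra A H]
    [Module.Flat A H] (hN : EGA4.IsNormalRing N)
    (hstage : ∀ S : Finset H, ∃ (E : Type u) (_ : CommRing E) (_ : Algebra A E) (_ : Algebra.Etale A E)
      (g : E →ₐ[A] H), ∀ b ∈ S, b ∈ Set.range g)
    {M Q₁ Q₂ : Ideal (N ⊗[A] H)} (hM : M.IsPrime) (h₁ : Q₁ ∈ minimalPrimes (N ⊗[A] H))
    (h₂ : Q₂ ∈ minimalPrimes (N ⊗[A] H)) (l₁ : Q₁ ≤ M) (l₂ : Q₂ ≤ M) : Q₁ ≤ Q₂ := by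
  classical
  intro z hz
  obtain ⟨S, hS⟩ := TensorProduct.exists_finset z
  obtain ⟨E, _, _, _, g, hg⟩ := hstage (S.image Prod.snd)
  choose! x hx using fun i (hi : i ∈ S) => hg i.2 (Finset.mem_image_of_mem _ hi)
  let f : N ⊗[A] E →ₐ[N] N ⊗[A] H := Algebra.TensorProduct.map (AlgHom.id _ _) g
  obtain ⟨z', hz'⟩ : ∃ z', f z' = z := by
    refine ⟨∑ i ∈ S, i.1 ⊗ₜ[A] x i, ?_⟩
    rw [map_sum, hS]
    refine Finset.sum_congr rfl fun i hi => ?_
    simp only [f, Algebra.TensorProduct.map_tmul, AlgHom.coe_id, id_eq, hx i hi]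
  have hNT : EGA4.IsNormalRing (N ⊗[A] E) := Desc19b.isNormalRing_of_smooth N (N ⊗[A] E) hN
  rw [← hz'] at hz ⊢
  exact (minimal_eq_of_normal hNT f hM h₂ l₂).ge ((minimal_eq_of_normal hNT f hM h₁ l₁).le hz)

/-- Minimal primes and maximal ideals of `N ⊗ H` correspond. -/
theorem card_minimalPrimes_eq_card_maximal {A N H : Type u} [CommRing A] [CommRing N] [Algebra A N]
    [Algebra.IsIntegral A N] [CommRing H] [HenselianLocalRing H] [Algebra A H]
    [Module.Flat A H] (hN : EGA4.IsNormalRing N)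
    (hstage : ∀ S : Finset H, ∃ (E : Type u) (_ : CommRing E) (_ : Algebra A E) (_ : Algebra.Etale A E)
      (g : E →ₐ[A] H), ∀ b ∈ S, b ∈ Set.range g) :
    (minimalPrimes (N ⊗[A] H)).encard = ENat.card (MaximalSpectrum (N ⊗[A] H)) := by
  letI := Algebra.TensorProduct.rightAlgebra (R := A) (A := N) (B := H)
  haveI : Algebra.IsIntegral H (N ⊗[A] H) :=
    Algebra.IsIntegral.of_surjective (Algebra.TensorProduct.commRight A H N).toAlgHom
      (Algebra.TensorProduct.commRight A H N).surjective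
  rw [← ENat.card_coe_set_eq]
  refine ENat.card_congr ?_
  let M : minimalPrimes (N ⊗[A] H) → MaximalSpectrum (N ⊗[A] H) := fun Q =>
    ⟨_, (Ideal.exists_le_maximal Q.1 Q.2.1.1.ne_top).choose_spec.1⟩
  have hQM : ∀ Q, Q.1 ≤ (M Q).asIdeal := fun Q => (Ideal.exists_le_maximal Q.1 Q.2.1.1.ne_top).choose_spec.2
  refine Equiv.ofBijective M ⟨fun Q₁ Q₂ h => Subtype.ext ?_, fun m => ?_⟩
  · have h₂ : Q₂.1 ≤ (M Q₁).asIdeal := h ▸ hQM Q₂
    exact le_antisymm (minimal_le_of_stages hN hstage (M Q₁).isMaximal.isPrime Q₁.2 Q₂.2 (hQM Q₁) h₂)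
      (minimal_le_of_stages hN hstage (M Q₁).isMaximal.isPrime Q₂.2 Q₁.2 h₂ (hQM Q₁))
  · haveI := m.isMaximal
    obtain ⟨Q, hQ, hle⟩ := Ideal.exists_minimalPrimes_le (J := m.asIdeal) bot_le
    refine ⟨⟨Q, hQ⟩, MaximalSpectrum.ext ?_⟩
    haveI := hQ.1.1
    exact eq_of_isMaximal_of_le (H := H) Q _ _ (M ⟨Q, hQ⟩).isMaximal m.isMaximal (hQM ⟨Q, hQ⟩) hle

/-- Maximal ideals of `N ⊗ H` when the residue extension of `H` is trivial. -/
theorem card_maximal_tensor {A N H L : Type u} [CommRing A] [CommRing N] [Algebra A N] [CommRing H]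
    [Algebra A H] [Module.FaithfullyFlat A H] [CommRing L] [Algebra A L] (π : H →ₐ[A] L)
    (hK : Function.Surjective (algebraMap A L))
    (hπ : ∀ M : Ideal (N ⊗[A] H), M.IsMaximal → ∀ x, π x = 0 → (1 : N) ⊗ₜ[A] x ∈ M) :
    ENat.card (MaximalSpectrum (N ⊗[A] H)) = ENat.card (MaximalSpectrum N) := by
  refine card_maximal_of_residual (algebraMap N (N ⊗[A] H)) (fun z => ?_) (fun m hm => ?_)
  · obtain ⟨c, hc⟩ := exists_residual (N := N) π hK z
    exact ⟨c, fun M hM => hc M (hπ M hM)⟩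
  · obtain ⟨Q, hQ⟩ := PrimeSpectrum.comap_surjective_of_faithfullyFlat
      (A := N) (B := N ⊗[A] H) ⟨m, hm.isPrime⟩
    exact ⟨Q.asIdeal, Q.isPrime, (congrArg PrimeSpectrum.asIdeal hQ).ge⟩

/-- Maximal ideals of `N ⊗ H` when the residue field of `H` is separably closed: pairs of a maximal ideal
of `N` and an embedding of its residue field. -/
theorem card_maximal_tensor_sep {A N H Ks Ω : Type u} [CommRing A] [IsLocalRing A] [CommRing N] [Algebra A N]
    [Algebra.IsIntegral A N] [CommRing H] [Algebra A H] [Field Ks] [IsSepClosed Ks] [Algebra A Ks]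
    [Field Ω] [IsAlgClosed Ω] [Algebra A Ω] (π : H →ₐ[A] Ks) (hsurj : Function.Surjective π) (j : Ks →ₐ[A] Ω)
    (hA0 : ∀ a ∈ maximalIdeal A, algebraMap A Ks a = 0)
    (hπ : ∀ M : Ideal (N ⊗[A] H), M.IsMaximal → ∀ x, π x = 0 → (1 : N) ⊗ₜ[A] x ∈ M)
    (hmax : ∀ Φ : N ⊗[A] H →ₐ[A] Ω, (∀ x, π x = 0 → Φ ((1 : N) ⊗ₜ[A] x) = 0) → (RingHom.ker Φ).IsMaximal) :
    ENat.card (MaximalSpectrum (N ⊗[A] H)) =
      ENat.card (Σ m : MaximalSpectrum N, {σ : N ⧸ m.asIdeal →+* Ω //
        σ.comp ((Ideal.Quotient.mk m.asIdeal).comp (algebraMap A N)) = algebraMap A Ω}) := by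
  let Φ : (Σ m : MaximalSpectrum N, {σ : N ⧸ m.asIdeal →+* Ω //
      σ.comp ((Ideal.Quotient.mk m.asIdeal).comp (algebraMap A N)) = algebraMap A Ω}) → (N ⊗[A] H →ₐ[A] Ω) :=
    fun p => Algebra.TensorProduct.lift
      { p.2.1.comp (Ideal.Quotient.mk p.1.asIdeal) with commutes' := fun a => RingHom.congr_fun p.2.2 a }
      (j.comp π) fun _ _ => Commute.all _ _
  have hΦ : ∀ p n h, Φ p (n ⊗ₜ h) = p.2.1 (Ideal.Quotient.mk p.1.asIdeal n) * j (π h) := fun p n h =>
    Algebra.TensorProduct.lift_tmul _ _ _ _ _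
  let F : (Σ m : MaximalSpectrum N, {σ : N ⧸ m.asIdeal →+* Ω //
      σ.comp ((Ideal.Quotient.mk m.asIdeal).comp (algebraMap A N)) = algebraMap A Ω}) →
        MaximalSpectrum (N ⊗[A] H) :=
    fun p => ⟨_, hmax (Φ p) fun x hx => by rw [hΦ, hx, map_zero j, mul_zero]⟩
  -- the residue field of `M` as an extension of `Ks`
  have hι : ∀ M : Ideal (N ⊗[A] H), M.IsMaximal → ∃ ι : Ks →+* (N ⊗[A] H) ⧸ M,
      ι.IsIntegral ∧ ∀ h, ι (π h) = Ideal.Quotient.mk M ((1 : N) ⊗ₜ h) := by
    intro M hM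
    haveI := hM
    let w : H →+* (N ⊗[A] H) ⧸ M :=
      (Ideal.Quotient.mk M).comp (Algebra.TensorProduct.includeRight : H →ₐ[A] N ⊗[A] H).toRingHom
    have hw : RingHom.ker π.toRingHom ≤ RingHom.ker w := fun x hx =>
      Ideal.Quotient.eq_zero_iff_mem.2 (hπ M hM x hx)
    refine ⟨π.toRingHom.liftOfSurjective hsurj ⟨w, hw⟩, ?_, fun h =>
      RingHom.liftOfRightInverse_comp_apply _ _ _ ⟨w, hw⟩ h⟩
    have hint : w.IsIntegral := by
      letI := Algebra.TensorProduct.rightAlgebra (R := A) (A := N) (B := H)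
      haveI : Algebra.IsIntegral H (N ⊗[A] H) :=
        Algebra.IsIntegral.of_surjective (Algebra.TensorProduct.commRight A H N).toAlgHom
          (Algebra.TensorProduct.commRight A H N).surjective
      intro y
      obtain ⟨z, rfl⟩ := Ideal.Quotient.mk_surjective y
      obtain ⟨g, hg, hgz⟩ := Algebra.IsIntegral.isIntegral (R := H) z
      exact ⟨g, hg, by
        show Polynomial.eval₂ ((Ideal.Quotient.mk M).comp (algebraMap H (N ⊗[A] H))) _ g = 0
        rw [← Polynomial.hom_eval₂, hgz, map_zero]⟩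
    refine RingHom.IsIntegral.tower_top π.toRingHom _ ?_
    have : (π.toRingHom.liftOfSurjective hsurj ⟨w, hw⟩).comp π.toRingHom = w :=
      RingHom.liftOfRightInverse_comp _ _ _ ⟨w, hw⟩
    rw [this]
    exact hint
  symm
  refine ENat.card_congr (Equiv.ofBijective F ⟨?_, ?_⟩)
  · rintro ⟨m₁, σ₁⟩ ⟨m₂, σ₂⟩ h
    have hk : RingHom.ker (Φ ⟨m₁, σ₁⟩) = RingHom.ker (Φ ⟨m₂, σ₂⟩) := congrArg MaximalSpectrum.asIdeal h
    set M := RingHom.ker (Φ ⟨m₁, σ₁⟩) with hMdef
    have hM : M.IsMaximal := (F ⟨m₁, σ₁⟩).isMaximal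
    haveI := hM
    letI := Ideal.Quotient.field M
    obtain ⟨ι, hιi, hιe⟩ := hι M hM
    let ψ₁ : (N ⊗[A] H) ⧸ M →+* Ω := Ideal.Quotient.lift M (Φ ⟨m₁, σ₁⟩).toRingHom fun x hx => hx
    let ψ₂ : (N ⊗[A] H) ⧸ M →+* Ω := Ideal.Quotient.lift M (Φ ⟨m₂, σ₂⟩).toRingHom fun x hx => hk.le hx
    letI := ι.toAlgebra
    haveI : Algebra.IsIntegral Ks ((N ⊗[A] H) ⧸ M) := ⟨hιi⟩
    haveI : IsPurelyInseparable Ks ((N ⊗[A] H) ⧸ M) := inferInstance
    have hψ : ψ₁ = ψ₂ := IsPurelyInseparable.injective_comp_algebraMap Ks ((N ⊗[A] H) ⧸ M) Ω (by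
      refine RingHom.ext fun x => ?_
      obtain ⟨h, rfl⟩ := hsurj x
      show ψ₁ (ι (π h)) = ψ₂ (ι (π h))
      rw [hιe]
      show Φ ⟨m₁, σ₁⟩ ((1 : N) ⊗ₜ h) = Φ ⟨m₂, σ₂⟩ ((1 : N) ⊗ₜ h)
      rw [hΦ, hΦ]
      simp only [map_one, one_mul])
    have hσ : ∀ n, σ₁.1 (Ideal.Quotient.mk m₁.asIdeal n) = σ₂.1 (Ideal.Quotient.mk m₂.asIdeal n) := fun n => by
      have h : Φ ⟨m₁, σ₁⟩ (n ⊗ₜ (1 : H)) = Φ ⟨m₂, σ₂⟩ (n ⊗ₜ (1 : H)) :=
        RingHom.congr_fun hψ (Ideal.Quotient.mk M (n ⊗ₜ[A] (1 : H)))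
      rw [hΦ, hΦ, map_one π, map_one j, mul_one, mul_one] at h
      exact h
    have hm : m₁ = m₂ := by
      refine MaximalSpectrum.ext (Ideal.ext fun n => ?_)
      haveI := m₁.isMaximal
      haveI := m₂.isMaximal
      letI := Ideal.Quotient.field m₁.asIdeal
      letI := Ideal.Quotient.field m₂.asIdeal
      rw [← Ideal.Quotient.eq_zero_iff_mem, ← Ideal.Quotient.eq_zero_iff_mem (I := m₂.asIdeal),
        ← map_eq_zero_iff σ₁.1 σ₁.1.injective, ← map_eq_zero_iff σ₂.1 σ₂.1.injective, hσ]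
    subst hm
    refine congrArg (Sigma.mk m₁) (Subtype.ext (RingHom.ext fun x => ?_))
    obtain ⟨n, rfl⟩ := Ideal.Quotient.mk_surjective x
    exact hσ n
  · intro M
    haveI := M.isMaximal
    letI := Ideal.Quotient.field M.asIdeal
    obtain ⟨ι, hιi, hιe⟩ := hι M.asIdeal M.isMaximal
    letI := ι.toAlgebra
    haveI : Algebra.IsIntegral Ks ((N ⊗[A] H) ⧸ M.asIdeal) := ⟨hιi⟩
    letI : Algebra Ks Ω := j.toRingHom.toAlgebra
    let ψ : (N ⊗[A] H) ⧸ M.asIdeal →ₐ[Ks] Ω := IsAlgClosed.lift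
    let u : N →+* Ω := ψ.toRingHom.comp ((Ideal.Quotient.mk M.asIdeal).comp (algebraMap N (N ⊗[A] H)))
    have hu : ∀ a, u (algebraMap A N a) = algebraMap A Ω a := fun a => by
      show ψ (Ideal.Quotient.mk M.asIdeal (algebraMap N (N ⊗[A] H) (algebraMap A N a))) = _
      rw [← IsScalarTower.algebraMap_apply A N (N ⊗[A] H),
        ← (Algebra.TensorProduct.includeRight : H →ₐ[A] N ⊗[A] H).commutes a,
        Algebra.TensorProduct.includeRight_apply, ← hιe, π.commutes]
      exact (ψ.commutes _).trans (j.commutes a)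
    haveI : (RingHom.ker u).IsPrime := RingHom.ker_isPrime u
    have hmm : (RingHom.ker u).IsMaximal := by
      refine Ideal.isMaximal_of_isIntegral_of_isMaximal_comap (R := A) _ ?_
      have h : maximalIdeal A ≤ (RingHom.ker u).comap (algebraMap A N) := fun a ha => by
        rw [Ideal.mem_comap, RingHom.mem_ker, hu, ← j.commutes, hA0 a ha, map_zero]
      rw [← (maximalIdeal.isMaximal A).eq_of_le (Ideal.IsPrime.comap _).ne_top h]
      exact maximalIdeal.isMaximal A
    refine ⟨⟨⟨RingHom.ker u, hmm⟩, Ideal.Quotient.lift _ u fun x hx => hx, RingHom.ext hu⟩, MaximalSpectrum.ext ?_⟩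
    refine ((M.isMaximal.eq_of_le (hmax _ fun x hx => by rw [hΦ, hx, map_zero j, mul_zero]).ne_top ?_)).symm
    intro z hz
    have key : ∀ z, Φ ⟨⟨RingHom.ker u, hmm⟩, Ideal.Quotient.lift _ u fun x hx => hx, RingHom.ext hu⟩ z =
        ψ (Ideal.Quotient.mk M.asIdeal z) := by
      intro z
      induction z using TensorProduct.induction_on with
      | zero => simp only [map_zero]
      | tmul n h =>
        rw [hΦ, show n ⊗ₜ[A] h = algebraMap N (N ⊗[A] H) n * ((1 : N) ⊗ₜ[A] h) by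
          rw [Algebra.TensorProduct.algebraMap_apply, Algebra.algebraMap_self_apply,
            Algebra.TensorProduct.tmul_mul_tmul, mul_one, one_mul], map_mul, map_mul, ← hιe]
        refine congrArg₂ (· * ·) rfl ?_
        exact (ψ.commutes (π h)).symm
      | add x y hx hy => simp only [map_add, hx, hy]
    rw [RingHom.mem_ker, key, Ideal.Quotient.eq_zero_iff_mem.2 hz, map_zero]

variable {A : Type u} [CommRing A] [IsLocalRing A] {K : Type u} [Field K] [Algebra A K] [IsLocalHom (algebraMap A K)]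

local notation "D" => CAlg2.normRed A ⊗[A] Hull A K

theorem exists_stage (S : Finset (Hull A K)) : ∃ (E : Type u) (_ : CommRing E) (_ : Algebra A E)
    (_ : Algebra.Etale A E) (g : E →ₐ[A] Hull A K), ∀ b ∈ S, b ∈ Set.range g := by
  obtain ⟨P, x, hx⟩ := exists_rep_finset S id
  exact ⟨P.Ring, inferInstance, inferInstance, P.etale, ι P, fun b hb => ⟨x b, hx b hb⟩⟩

theorem encard_minimalPrimes_eq_card_maximal (hfin : (minimalPrimes A).Finite) :
    (minimalPrimes (Hull A K)).encard = ENat.card (MaximalSpectrum D) := by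
  obtain ⟨_, _, _, _⟩ := hull_facts (A := A) (K := K)
  have : Algebra.IsIntegral A (CAlg2.normRed A) := Algebra.IsIntegral.trans (CAlg2.red A)
  have hbij := bijOn (A := A) (H := Hull A K) (fun q q' _ _ => hull_eq_of_le_of_comap_eq) hfin
  rw [← hbij.image_eq, hbij.injOn.encard_image]
  exact card_minimalPrimes_eq_card_maximal (EGA43.Branches.isNormalRing_normRed A hfin) exists_stage

theorem infinite_minimalPrimes (hinf : ¬ (minimalPrimes A).Finite) :
    (minimalPrimes (Hull A K)).encard = ⊤ := by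
  obtain ⟨_, _, _, _⟩ := hull_facts (A := A) (K := K)
  rw [Set.encard_eq_top_iff]
  intro hfin
  refine hinf ((hfin.image fun Q => Q.comap (algebraMap A (Hull A K))).subset fun P hP => ?_)
  obtain ⟨Q, hQ⟩ := PrimeSpectrum.comap_surjective_of_faithfullyFlat (A := A) (B := Hull A K) ⟨P, hP.1.1⟩
  have hQP : Q.asIdeal.comap (algebraMap A (Hull A K)) = P := congrArg PrimeSpectrum.asIdeal hQ
  obtain ⟨Q', hQ', hle⟩ := Ideal.exists_minimalPrimes_le (J := Q.asIdeal) (bot_le (a := Q.asIdeal))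
  haveI := hQ'.1.1
  exact ⟨Q', hQ', le_antisymm ((Ideal.comap_mono hle).trans hQP.le)
    (hP.2 ⟨Ideal.IsPrime.comap _, bot_le⟩ ((Ideal.comap_mono hle).trans hQP.le))⟩

theorem includeRight_maximalIdeal [HenselianLocalRing (Hull A K)] (M : Ideal D) [M.IsMaximal] {x : Hull A K}
    (hx : hullPt A K x = 0) : (1 : CAlg2.normRed A) ⊗ₜ[A] x ∈ M := by
  have h : x ∈ maximalIdeal (Hull A K) := by rw [maximalIdeal_hull]; exact hx
  rw [← comap_maximal_eq M] at h
  exact h

/-- Points of `A' ⊗ H` with residue extension trivial. -/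
theorem card_maximal_of_surjective (hK : Function.Surjective (algebraMap A K)) :
    ENat.card (MaximalSpectrum D) = ENat.card (MaximalSpectrum (CAlg2.normRed A)) := by
  obtain ⟨_, _, _, _⟩ := hull_facts (A := A) (K := K)
  exact card_maximal_tensor (N := CAlg2.normRed A) (hullPt A K) hK
    fun M hM x hx => @includeRight_maximalIdeal A _ _ K _ _ _ _ M hM x hx

theorem sigma_emb_eq (hfin : (minimalPrimes A).Finite) :
    Brnch.numGeomBranches A = ENat.card (Σ m' : MaximalSpectrum (CAlg2.normRed A), Brnch.Emb A m') := by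
  rw [Brnch.numGeomBranches, if_pos hfin]

omit K in
/-- Geometric branches count the minimal primes of the strict henselization. -/
theorem numGeomBranches_eq {A : Type u} [CommRing A] [IsLocalRing A] (S : Type u) [CommRing S] [IsLocalRing S]
    [Algebra A S] [IsLocalHom (algebraMap A S)] [Hensel.IsStrictHenselization A S] :
    (minimalPrimes S).encard = Brnch.numGeomBranches A := by
  obtain ⟨e⟩ := exists_equiv_localSH S (R := A)
  rw [← encard_minimalPrimes_congr e.toRingEquiv]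
  by_cases hfin : (minimalPrimes A).Finite
  · obtain ⟨_, _, _, _⟩ := hull_facts (A := A) (K := SepRes A)
    have : Algebra.IsIntegral A (CAlg2.normRed A) := Algebra.IsIntegral.trans (CAlg2.red A)
    rw [encard_minimalPrimes_eq_card_maximal hfin, sigma_emb_eq hfin]
    refine (card_maximal_tensor_sep (N := CAlg2.normRed A) (hullPt A (SepRes A)) hullPt_sep_surjective
      ((separableClosure (ResidueField A) (AlgebraicClosure (ResidueField A))).val.restrictScalars A)
      (fun a ha => ?_) (fun M hM x hx => @includeRight_maximalIdeal A _ _ (SepRes A) _ _ _ _ M hM x hx)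
      (fun Φ h => isMaximal_ker Φ fun x hx => ?_)).trans ?_
    · rw [IsScalarTower.algebraMap_apply A (ResidueField A) (SepRes A), ResidueField.algebraMap_eq,
        (residue_eq_zero_iff a).2 ha, map_zero]
    · rw [maximalIdeal_hull, RingHom.mem_ker] at hx
      exact h x hx
    · rfl
  · rw [infinite_minimalPrimes hfin, Brnch.numGeomBranches, if_neg hfin]

omit K in
/-- Branches count the minimal primes of the henselization. -/
theorem numBranches_eq {A : Type u} [CommRing A] [IsLocalRing A] (S : Type u) [CommRing S] [IsLocalRing S]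
    [Algebra A S] [IsLocalHom (algebraMap A S)] [Hensel.IsHenselization A S] :
    (minimalPrimes S).encard = Brnch.numBranches A := by
  obtain ⟨e⟩ := exists_equiv_localH S (R := A)
  letI : Field (A ⧸ maximalIdeal A) := Ideal.Quotient.field _
  haveI : IsLocalHom (algebraMap A (A ⧸ maximalIdeal A)) :=
    ⟨fun r h => by_contra fun hr => h.ne_zero (Ideal.Quotient.eq_zero_iff_mem.mpr
      ((IsLocalRing.mem_maximalIdeal r).mpr hr))⟩
  rw [← encard_minimalPrimes_congr e.toRingEquiv]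
  by_cases hfin : (minimalPrimes A).Finite
  · rw [encard_minimalPrimes_eq_card_maximal hfin, Brnch.numBranches, if_pos hfin]
    exact card_maximal_of_surjective Ideal.Quotient.mk_surjective
  · rw [infinite_minimalPrimes hfin, Brnch.numBranches, if_neg hfin]

end Groth.Agent.EGA43.BranchCount
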