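import Mathlib
import Groth.Agent.EGA43.BranchCount.Main
import Groth.Agent.HenselLib.HullWEt
import Groth.Agent.HenselLib.LocalInt
import Groth.Agent.HenselLib.HensBase
import Groth.Agent.EGA43.ConnFlat.FormalFibres
import Groth.Agent.Disc12.OmegaFlat

/-! Branches of a Noetherian local ring and of its completion. -/

set_option autoImplicit false
set_option backward.isDefEq.respectTransparency false
set_option linter.style.haveILetI false

universe u

open IsLocalRing

namespace Groth.Agent.EGA43.BranchCount

open HenselLib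

/-- A faithfully flat map induces a surjection on minimal primes. -/
theorem image_comap_minimalPrimes {R S : Type u} [CommRing R] [CommRing S] [Algebra R S] [Module.FaithfullyFlat R S] :
    (fun Q : Ideal S => Q.comap (algebraMap R S)) '' minimalPrimes S = minimalPrimes R := by
  refine Set.Subset.antisymm ?_ fun P hP => ?_
  · rintro _ ⟨Q, hQ, rfl⟩
    exact CAlgSmall.UnibranchHull.comap_mem_minimalPrimes (R := R) hQ
  · obtain ⟨Q, hQ⟩ := PrimeSpectrum.comap_surjective_of_faithfullyFlat (A := R) (B := S) ⟨P, hP.1.1⟩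
    have hQP : Q.asIdeal.comap (algebraMap R S) = P := congrArg PrimeSpectrum.asIdeal hQ
    obtain ⟨Q', hQ', hle⟩ := Ideal.exists_minimalPrimes_le (J := Q.asIdeal) (bot_le (a := Q.asIdeal))
    haveI := hQ'.1.1
    exact ⟨Q', hQ', le_antisymm ((Ideal.comap_mono hle).trans hQP.le)
      (hP.2 ⟨Ideal.IsPrime.comap _, bot_le⟩ ((Ideal.comap_mono hle).trans hQP.le))⟩

/-- A local hom from a ring weakly étale over `A` to a flat `A`-algebra is faithfully flat. -/
theorem faithfullyFlat_of_weaklyEtale {A S B : Type u} [CommRing A] [CommRing S] [IsLocalRing S] [CommRing B]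
    [IsLocalRing B] [Algebra A S] [Algebra A B] [Algebra S B] [IsScalarTower A S B]
    [Algebra.WeaklyEtale A S] [Module.Flat A B] [IsLocalHom (algebraMap S B)] : Module.FaithfullyFlat S B := by
  haveI : Module.Flat S B := HenselLib.WEt.flat_of_flat_lmul (Algebra.WeaklyEtale.flat_lmul' A S) B
  exact Module.FaithfullyFlat.of_flat_of_isLocalHom

theorem weaklyEtale_of_isHenselization (A S : Type u) [CommRing A] [IsLocalRing A] [CommRing S] [IsLocalRing S]
    [Algebra A S] [IsLocalHom (algebraMap A S)] [Hensel.IsHenselization A S] : Algebra.WeaklyEtale A S := by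
  obtain ⟨e⟩ := exists_equiv_localH S (R := A)
  exact HenselLib.weaklyEtale_of_equiv e

theorem weaklyEtale_of_isStrictHenselization (A S : Type u) [CommRing A] [IsLocalRing A] [CommRing S] [IsLocalRing S]
    [Algebra A S] [IsLocalHom (algebraMap A S)] [Hensel.IsStrictHenselization A S] : Algebra.WeaklyEtale A S := by
  obtain ⟨e⟩ := exists_equiv_localSH S (R := A)
  exact HenselLib.weaklyEtale_of_equiv e

theorem faithfullyFlat_henselization {A S B : Type u} [CommRing A] [IsLocalRing A] [CommRing S] [IsLocalRing S]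
    [CommRing B] [IsLocalRing B] [Algebra A S] [IsLocalHom (algebraMap A S)] [Hensel.IsHenselization A S]
    [Algebra A B] [IsLocalHom (algebraMap A B)] [Module.Flat A B] (ψ : S →+* B)
    (hψ : ψ.comp (algebraMap A S) = algebraMap A B) : letI := ψ.toAlgebra; Module.FaithfullyFlat S B := by
  letI := ψ.toAlgebra
  haveI : IsScalarTower A S B := IsScalarTower.of_algebraMap_eq fun a => (RingHom.congr_fun hψ a).symm
  haveI : IsLocalHom (algebraMap S B) := by
    refine ((IsLocalRing.local_hom_TFAE ψ).out 0 2).2 ?_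
    rw [← HenselLib.HensBase.map_maximalIdeal_of_isHenselization A S, Ideal.map_map, hψ]
    exact ((IsLocalRing.local_hom_TFAE (algebraMap A B)).out 0 2).1 ‹IsLocalHom (algebraMap A B)›
  haveI := weaklyEtale_of_isHenselization A S
  exact faithfullyFlat_of_weaklyEtale (A := A)

theorem encard_minimalPrimes_le {A B : Type u} [CommRing A] [IsLocalRing A] [CommRing B] [HenselianLocalRing B]
    [Algebra A B] [IsLocalHom (algebraMap A B)] [Module.Flat A B] :
    Brnch.numBranches A ≤ Brnch.numBranches B := by
  haveI := isHenselization_localH (R := A)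
  haveI : IsLocalHom (algebraMap B B) := ⟨fun _ h => h⟩
  haveI := HenselLib.LocalInt.isHenselization_self B
  obtain ⟨ψ, hψ, -⟩ := (isHenselization_localH (R := A)).universal B (algebraMap A B) inferInstance
  letI := ψ.toAlgebra
  haveI : Module.FaithfullyFlat (LocalH A) B := faithfullyFlat_henselization ψ hψ
  rw [← numBranches_eq (A := A) (LocalH A), ← numBranches_eq (A := B) B,
    ← image_comap_minimalPrimes (R := LocalH A) (S := B)]
  exact Set.encard_image_le _ _

theorem numGeomBranches_le {A B : Type u} [CommRing A] [IsLocalRing A] [CommRing B] [IsLocalRing B]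
    [Algebra A B] [IsLocalHom (algebraMap A B)] [Module.Flat A B] :
    Brnch.numGeomBranches A ≤ Brnch.numGeomBranches B := by
  haveI hA := isStrictHenselization_localSH (R := A)
  haveI hB := isStrictHenselization_localSH (R := B)
  let T := LocalSH B
  let f : A →+* T := (algebraMap B T).comp (algebraMap A B)
  haveI hf : IsLocalHom f := RingHom.isLocalHom_comp _ _
  haveI := hA.isSepClosure
  haveI := hB.isSepClosure
  haveI : IsSepClosed (ResidueField T) := IsSepClosure.sep_closed (ResidueField B)
  letI : Algebra (ResidueField A) (ResidueField T) := (ResidueField.map f).toAlgebra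
  let τ : ResidueField (LocalSH A) →ₐ[ResidueField A] ResidueField T := IsSepClosed.lift
  have hτ : τ.toRingHom.comp (ResidueField.map (algebraMap A (LocalSH A))) = ResidueField.map f := τ.comp_algebraMap
  haveI := hB.henselian
  obtain ⟨g, ⟨hg, -⟩, -⟩ := hA.universal T f τ.toRingHom hτ
  letI : Algebra (LocalSH A) T := g.toAlgebra
  letI : Algebra A T := f.toAlgebra
  haveI : IsScalarTower A B T := IsScalarTower.of_algebraMap_eq fun _ => rfl
  haveI : IsScalarTower A (LocalSH A) T := IsScalarTower.of_algebraMap_eq fun r => (RingHom.congr_fun hg r).symm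
  haveI : IsLocalHom (algebraMap (LocalSH A) T) := by
    refine ((IsLocalRing.local_hom_TFAE g).out 0 2).2 ?_
    rw [← HenselLib.HensBase.map_maximalIdeal_of_isStrictHenselization A (LocalSH A), Ideal.map_map, hg]
    exact ((IsLocalRing.local_hom_TFAE f).out 0 2).1 hf
  haveI := weaklyEtale_of_isStrictHenselization B T
  haveI : Module.Flat A T := Module.Flat.trans A B T
  haveI := weaklyEtale_of_isStrictHenselization A (LocalSH A)
  haveI : Module.FaithfullyFlat (LocalSH A) T := faithfullyFlat_of_weaklyEtale (A := A)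
  rw [← numGeomBranches_eq (A := A) (LocalSH A), ← numGeomBranches_eq (A := B) T,
    ← image_comap_minimalPrimes (R := LocalSH A) (S := T)]
  exact Set.encard_image_le _ _

theorem le_completion (A : Type u) [CommRing A] [IsLocalRing A] [IsNoetherianRing A] :
    Brnch.numBranches A ≤ Brnch.numBranches (AdicCompletion (maximalIdeal A) A) ∧
      Brnch.numGeomBranches A ≤ Brnch.numGeomBranches (AdicCompletion (maximalIdeal A) A) := by
  haveI : IsLocalHom (algebraMap A (AdicCompletion (maximalIdeal A) A)) := (ConnFlat.exists_sub_mem_cpl A).1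
  haveI : HenselianLocalRing (AdicCompletion (maximalIdeal A) A) := Disc12.henselianLocalRing_completion A
  exact ⟨encard_minimalPrimes_le, numGeomBranches_le⟩

/-- `A` and its completion have as many branches iff each minimal prime of the henselization extends to
a prime up to radical. -/
theorem numBranches_eq_iff (A S : Type u) [CommRing A] [IsLocalRing A]
    [IsNoetherianRing A] [CommRing S] [IsLocalRing S] [Algebra A S] [IsLocalHom (algebraMap A S)]
    [Hensel.IsHenselization A S] (ψ : S →+* AdicCompletion (maximalIdeal A) A)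
    (hψ : ψ.comp (algebraMap A S) = algebraMap A (AdicCompletion (maximalIdeal A) A)) :
    Brnch.numBranches A = Brnch.numBranches (AdicCompletion (maximalIdeal A) A) ↔
      ∀ q ∈ minimalPrimes S, (Ideal.map ψ q).radical.IsPrime := by
  haveI : IsLocalHom (algebraMap A (AdicCompletion (maximalIdeal A) A)) := (ConnFlat.exists_sub_mem_cpl A).1
  haveI : HenselianLocalRing (AdicCompletion (maximalIdeal A) A) := Disc12.henselianLocalRing_completion A
  haveI : IsLocalHom (algebraMap (AdicCompletion (maximalIdeal A) A) (AdicCompletion (maximalIdeal A) A)) :=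
    ⟨fun _ h => h⟩
  haveI := HenselLib.LocalInt.isHenselization_self (AdicCompletion (maximalIdeal A) A)
  letI := ψ.toAlgebra
  haveI : Module.FaithfullyFlat S (AdicCompletion (maximalIdeal A) A) := faithfullyFlat_henselization ψ hψ
  rw [← numBranches_eq (A := A) S,
    ← numBranches_eq (A := AdicCompletion (maximalIdeal A) A) (AdicCompletion (maximalIdeal A) A)]
  have himg := image_comap_minimalPrimes (R := S) (S := AdicCompletion (maximalIdeal A) A)
  have hfin : (minimalPrimes (AdicCompletion (maximalIdeal A) A)).Finite := minimalPrimes.finite_of_isNoetherianRing _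
  have hfib : ∀ q ∈ minimalPrimes S, ∀ P, P ∈ (Ideal.map ψ q).minimalPrimes ↔
      P ∈ minimalPrimes (AdicCompletion (maximalIdeal A) A) ∧ P.comap ψ = q := by
    intro q hq P
    constructor
    · intro hP
      haveI := hP.1.1
      obtain ⟨P₀, hP₀, hle⟩ := Ideal.exists_minimalPrimes_le (J := P) (bot_le (a := P))
      haveI := hP₀.1.1
      have hq' : P.comap ψ ≥ q := Ideal.map_le_iff_le_comap.1 hP.1.2
      have hc : P₀.comap ψ ∈ minimalPrimes S := himg ▸ ⟨P₀, hP₀, rfl⟩
      haveI := hq.1.1
      by_contra hcon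
      obtain ⟨P', hP'q, hP'⟩ : ∃ P' : Ideal (AdicCompletion (maximalIdeal A) A),
          P' ≤ P ∧ P'.IsPrime ∧ P'.comap ψ = q := by
        haveI : P.LiesOver (P.comap ψ) := ⟨rfl⟩
        obtain ⟨P', hle', hP', hP'q⟩ := Ideal.exists_ideal_le_liesOver_of_le (S := AdicCompletion (maximalIdeal A) A)
          (p := q) (q := P.comap ψ) P hq'
        exact ⟨P', hle', hP', hP'q.over.symm⟩
      haveI := hP'.1
      have hPP' : P ≤ P' := hP.2 ⟨hP'.1, Ideal.map_le_iff_le_comap.2 hP'.2.ge⟩ hP'q
      obtain ⟨P₁, hP₁, hle₁⟩ := Ideal.exists_minimalPrimes_le (J := P') (bot_le (a := P'))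
      haveI := hP₁.1.1
      have hc₁ : P₁.comap ψ = q := le_antisymm ((Ideal.comap_mono hle₁).trans hP'.2.le)
        (hq.2 ⟨Ideal.IsPrime.comap _, bot_le⟩ ((Ideal.comap_mono hle₁).trans hP'.2.le))
      have : P ≤ P₁ := hP.2 ⟨hP₁.1.1, Ideal.map_le_iff_le_comap.2 hc₁.ge⟩ (hle₁.trans hP'q)
      exact hcon ⟨le_antisymm (hle₁.trans hP'q) this ▸ hP₁, le_antisymm (hle₁.trans hP'q) this ▸ hc₁⟩
    · rintro ⟨hP, rfl⟩
      exact ⟨⟨hP.1.1, Ideal.map_comap_le⟩, fun J hJ hle => hP.2 ⟨hJ.1, bot_le⟩ hle⟩
  constructor
  · intro h q hq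
    have hinj : Set.InjOn (fun Q : Ideal (AdicCompletion (maximalIdeal A) A) => Q.comap ψ)
        (minimalPrimes (AdicCompletion (maximalIdeal A) A)) :=
      hfin.injOn_of_encard_image_eq (by rw [← h, ← himg]; rfl)
    obtain ⟨P, hP, hPq⟩ := himg.ge hq
    have : (Ideal.map ψ q).minimalPrimes = {P} := by
      ext J
      rw [hfib q hq, Set.mem_singleton_iff]
      exact ⟨fun hJ => hinj hJ.1 hP (hJ.2.trans hPq.symm), fun e => e ▸ ⟨hP, hPq⟩⟩
    rw [← Ideal.sInf_minimalPrimes, this, sInf_singleton]
    exact hP.1.1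
  · intro h
    have hinj : Set.InjOn (fun Q : Ideal (AdicCompletion (maximalIdeal A) A) => Q.comap ψ)
        (minimalPrimes (AdicCompletion (maximalIdeal A) A)) := by
      intro P hP P' hP' he
      have hq : P.comap ψ ∈ minimalPrimes S := himg ▸ ⟨P, hP, rfl⟩
      haveI := h _ hq
      have e1 : ∀ J ∈ (Ideal.map ψ (P.comap ψ)).minimalPrimes, J = (Ideal.map ψ (P.comap ψ)).radical :=
        fun J hJ => le_antisymm
          (hJ.2 ⟨inferInstance, Ideal.le_radical⟩ ((hJ.1.1.isRadical.radical_le_iff).2 hJ.1.2))
          ((hJ.1.1.isRadical.radical_le_iff).2 hJ.1.2)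
      rw [e1 P ((hfib _ hq P).2 ⟨hP, rfl⟩), e1 P' ((hfib _ hq P').2 ⟨hP', he.symm⟩)]
    rw [← himg]
    exact hinj.encard_image

end Groth.Agent.EGA43.BranchCount
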